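import Cfsg.Agent.Chev.F4Invol.Verifier
import Cfsg.Agent.Chev.Twist.E6Stmts
import Cfsg.Agent.Chev.BNpair

/-!
Coordinates on the positive unipotent subgroup of `²E₆` in characteristic two, in an order in which
the orbits of the graph symmetry are consecutive.
-/

set_option autoImplicit false
set_option maxRecDepth 100000
set_option maxHeartbeats 1000000

namespace Cfsg.Agent.Chev

open Cfsg.Lie

universe u

namespace E6Invol

open UniCert (cf incr gw)

local notation "hE" => facts_chevE6

/-- The order of the coordinates. -/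
def keyT (r : ℕ) : ℕ := e6FoldP.getD r 0 * 72 + r

/-- The positive roots in that order. -/
def ordL : List ℕ := [46, 39, 47, 37, 42, 40, 43, 48, 50, 44, 51, 53, 36, 56, 38, 57, 41, 58, 49, 61, 45, 59, 52, 62, 54, 64, 55, 67, 60, 63, 65, 66, 68, 69, 70, 71]

/-- The graph symmetry on the indices. -/
def rhoN (r : ℕ) : ℕ := ([0, 1, 2, 5, 16, 3, 6, 17, 8, 19, 22, 11, 26, 30, 33, 35, 4, 7, 18, 9, 20, 23, 10, 21, 24, 25, 12, 27, 31, 34, 13, 28, 32, 14, 29, 15, 56, 42, 57, 39, 43, 58, 37, 40, 44, 59, 46, 47, 50, 61, 48, 51, 62, 53, 64, 67, 36, 38, 41, 45, 60, 49, 52, 63, 54, 65, 68, 55, 66, 69, 70, 71] : List ℕ).getD r 0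

/-- A sublist test on the roots. -/
def isSub : List ℕ → List ℕ → Bool
  | [], _ => true
  | _ :: _, [] => false
  | a :: l, b :: m => bif a == b then isSub l m else isSub (a :: l) m

/-- The word of the natural order. -/
def natW : List (ℕ × List (List ℕ)) := collPoly chevE6 (fun r => r) 400 (gw ordL)

/-- The word of the twisted order. -/
def ordW : List (ℕ × List (List ℕ)) := collPoly chevE6 keyT 400 (gw (List.range' 36 36))

/-- The word produced by the twist. -/
def sigW : List (ℕ × List (List ℕ)) :=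
  collPoly chevE6 keyT 400 (ordL.map fun r => (rhoN r, CE.var (rhoN r)))

theorem shape : chevE6.nroots = 72 ∧ half chevE6 = 36 := by decide +kernel

theorem ordL_chk : ordL.Nodup ∧ (∀ r ∈ ordL, 36 ≤ r ∧ r < 72) ∧
    (List.range' 36 36).all (fun r => ordL.contains r) = true := by
  decide +kernel

theorem rho_chk : ∀ r : Fin chevE6.nroots, ((e6_flip_ρ r : Fin chevE6.nroots) : ℕ) = rhoN r := by
  decide +kernel

theorem rho_pos_chk : (List.range' 36 36).all
    (fun r => Nat.ble 36 (rhoN r) && Nat.blt (rhoN r) 72 && rhoN (rhoN r) == r) = true := by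
  decide +kernel

theorem natW_chk : (incr 72 36 natW && (List.range' 36 36).all (fun r => (cf natW r).contains [r] &&
    ((cf natW r).erase [r]).all fun m => m.all fun x => Nat.ble 36 x && Nat.blt x r)) = true := by
  decide +kernel

theorem ordW_chk : isSub (ordW.map Prod.fst) ordL = true := by decide +kernel

theorem sigW_chk : (sigW == ordL.map fun r => (r, [[r]])) = true := by decide +kernel

theorem mem_ordL {r : ℕ} (h1 : 36 ≤ r) (h2 : r < 72) : r ∈ ordL := by
  have := List.all_eq_true.1 ordL_chk.2.2 r (List.mem_range'_1.2 (by omega))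
  exact List.contains_iff_mem.1 this

theorem ordL_range {r : ℕ} (h : r ∈ ordL) : 36 ≤ r ∧ r < 72 := ordL_chk.2.1 r h

theorem ordL_lt {r : ℕ} (h : r ∈ ordL) : r < chevE6.nroots := shape.1 ▸ (ordL_range h).2

theorem rhoN_range {r : ℕ} (h1 : 36 ≤ r) (h2 : r < 72) :
    36 ≤ rhoN r ∧ rhoN r < 72 ∧ rhoN (rhoN r) = r := by
  have := List.all_eq_true.1 rho_pos_chk r (List.mem_range'_1.2 (by omega))
  simp only [Bool.and_eq_true, Nat.ble_eq, Nat.blt_eq, beq_iff_eq] at this
  exact ⟨this.1.1, this.1.2, this.2⟩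

theorem isSub_mem : ∀ {l m : List ℕ}, isSub l m = true → ∀ r ∈ l, r ∈ m
  | [], _, _, r, hr => absurd hr (List.not_mem_nil)
  | a :: l, [], h, _, _ => by simp [isSub] at h
  | a :: l, b :: m, h, r, hr => by
    rw [isSub] at h
    by_cases e : a = b
    · subst e
      simp only [beq_self_eq_true, cond_true] at h
      rcases List.mem_cons.1 hr with rfl | hr
      · exact List.mem_cons_self ..
      · exact List.mem_cons_of_mem _ (isSub_mem h r hr)
    · rw [beq_eq_false_iff_ne.2 e, cond_false] at h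
      exact List.mem_cons_of_mem _ (isSub_mem h r hr)

variable {K : Type u} [Field K]

/-- The product in the twisted order. -/
def kProd (t : ℕ → K) : GL chevE6.Idx K := wordG hE (ordL.map fun r => (r, t r))

theorem kProd_congr {t t' : ℕ → K} (h : ∀ r ∈ ordL, t r = t' r) : kProd t = kProd t' :=
  congrArg (wordG hE) (List.map_congr_left fun r hr => by rw [h r hr])

theorem kProd_zero : kProd (fun _ => (0 : K)) = 1 :=
  List.prod_eq_one fun x hx => by
    rw [List.map_map] at hx
    obtain ⟨y, -, rfl⟩ := List.mem_map.1 hx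
    exact xG_zero hE y

theorem wordG_isSub (ρ : ℕ → K) : ∀ (m : List ℕ) (w : List (ℕ × List (List ℕ))), m.Nodup →
    isSub (w.map Prod.fst) m = true →
    wordG hE (w.map fun p => (p.1, CE.pval ρ p.2)) =
      wordG hE (m.map fun r => (r, CE.pval ρ (cf w r)))
  | [], [], _, _ => by simp [wordG]
  | [], p :: w, _, h => by simp [isSub] at h
  | b :: m, [], hm, _ => by
    symm
    refine List.prod_eq_one fun x hx => ?_
    rw [List.map_map] at hx
    obtain ⟨y, -, rfl⟩ := List.mem_map.1 hx
    simp [cf, CE.pval, xG_zero]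
  | b :: m, p :: w, hm, h => by
    obtain ⟨hb, hm'⟩ := List.nodup_cons.1 hm
    obtain ⟨a, v⟩ := p
    rw [List.map_cons, isSub] at h
    by_cases e : a = b
    · subst e
      simp only [beq_self_eq_true, cond_true] at h
      rw [List.map_cons, List.map_cons, wordG_cons, wordG_cons, wordG_isSub ρ m w hm' h]
      have h0 : cf ((a, v) :: w) a = v := by simp [cf]
      rw [h0]
      congr 2
      refine List.map_congr_left fun r hr => ?_
      have : (r == a) = false := beq_eq_false_iff_ne.2 fun e => hb (e ▸ hr)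
      rw [cf, cf, List.lookup_cons, this]
    · rw [beq_eq_false_iff_ne.2 e, cond_false] at h
      have h0 : cf ((a, v) :: w) b = [] := by
        cases hl : ((a, v) :: w).lookup b with
        | none => simp [cf, hl]
        | some q =>
          obtain ⟨l₁, l₂, e', -⟩ := List.lookup_eq_some_iff.1 hl
          have : b ∈ ((a, v) :: w).map Prod.fst := by rw [e']; simp
          exact absurd (isSub_mem h b this) hb
      rw [List.map_cons (l := m), wordG_cons, h0, wordG_isSub ρ m ((a, v) :: w) hm' h]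
      simp [CE.pval, xG_zero]

theorem wordG_ordL (ρ : ℕ → K) (w : List (ℕ × List (List ℕ)))
    (h : isSub (w.map Prod.fst) ordL = true) :
    wordG hE (w.map fun p => (p.1, CE.pval ρ p.2)) = kProd fun r => CE.pval ρ (cf w r) :=
  wordG_isSub ρ ordL w ordL_chk.1 h

theorem wordC_gw (ρ : ℕ → K) (S : List ℕ) :
    wordC hE ρ (gw S) = wordG hE (S.map fun r => (r, ρ r)) := by
  simp [wordC, gw, CE.val, Function.comp_def]

theorem wordC_sub {ρ : ℕ → K} {S : List ℕ} (hS : isSub S ordL = true)
    (h0 : ∀ r ∈ ordL, r ∉ S → ρ r = 0) : wordC hE ρ (gw S) = kProd ρ := by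
  have e := wordG_ordL ρ (S.map fun r => (r, [[r]])) (by simpa [Function.comp_def] using hS)
  rw [wordC_gw]
  have e1 : wordG hE (S.map fun r => (r, ρ r)) =
      wordG hE ((S.map fun r => (r, [[r]])).map fun p => (p.1, CE.pval ρ p.2)) := by
    simp [CE.pval, Function.comp_def]
  rw [e1, e]
  refine kProd_congr fun r hr => ?_
  rw [UniCert.cf_map_self]
  by_cases hrS : r ∈ S
  · simp [hrS, CE.pval]
  · simp [hrS, CE.pval, h0 r hr hrS]

variable [CharP K 2]

theorem kProd_nat (t : ℕ → K) : kProd t = prodFrom hE 36 fun r => CE.pval t (cf natW r) := by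
  have h := natW_chk
  rw [Bool.and_eq_true] at h
  rw [← UniCert.wordG_incr hE t _ 36 natW rfl (by rw [shape.1]; exact h.1), natW, ← wordC_collPoly,
    wordC_gw]
  rfl

theorem kProd_inj {t t' : ℕ → K} (e : kProd t = kProd t') : ∀ r ∈ ordL, t r = t' r := by
  rw [kProd_nat, kProd_nat] at e
  have hi := prodFrom_inj hE _ _ rfl shape.2.le e
  have h := natW_chk
  rw [Bool.and_eq_true, List.all_eq_true] at h
  intro r
  induction r using Nat.strong_induction_on with
  | _ r ih =>
    intro hr
    obtain ⟨h1, h2⟩ := ordL_range hr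
    have hc := h.2 r (List.mem_range'_1.2 (by omega))
    simp only [Bool.and_eq_true, List.all_eq_true, Nat.ble_eq, Nat.blt_eq,
      List.contains_iff_mem] at hc
    have hp := List.perm_cons_erase hc.1
    have hv : ∀ u : ℕ → K, CE.pval u (cf natW r) = u r + CE.pval u ((cf natW r).erase [r]) := by
      intro u
      rw [CE.pval, (hp.map _).sum_eq]
      simp [CE.pval]
    have hrest : CE.pval t ((cf natW r).erase [r]) = CE.pval t' ((cf natW r).erase [r]) := by
      refine congrArg List.sum (List.map_congr_left fun m hm => congrArg List.prod ?_)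
      refine List.map_congr_left fun x hx => ?_
      obtain ⟨a, b⟩ := hc.2 m hm x hx
      exact ih x b (mem_ordL a (by omega))
    have := hi r h1 (by rw [shape.1]; exact h2)
    rw [hv, hv, hrest] at this
    exact add_right_cancel this

theorem exists_kProd {g : GL chevE6.Idx K} (hg : g ∈ chevE6.posUnipotent K) :
    ∃ t, g = kProd t := by
  obtain ⟨t, rfl⟩ := (mem_posUnipotent_iff hE).1 hg
  refine ⟨fun r => CE.pval t (cf ordW r), ?_⟩
  rw [← wordG_ordL t ordW ordW_chk, ordW, ← wordC_collPoly, wordC_gw, shape.2, prodFrom,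
    (by decide +kernel : chevE6.nroots - 36 = 36)]

theorem kProd_mem (t : ℕ → K) : kProd t ∈ chevE6.posUnipotent K :=
  (mem_posUnipotent_iff hE).2 ⟨_, by rw [kProd_nat, shape.2]⟩

variable {φ : K →+* K} {hφ : ∀ t, (φ ^ 2) t = t}

local notation "TT" => twistE6 K φ hφ

omit [CharP K 2] in
theorem phi2 (hφ : ∀ t, (φ ^ 2) t = t) (t : K) : φ (φ t) = t := by
  have := hφ t
  simpa [pow_succ, RingHom.mul_def] using this

theorem σ_root {r : ℕ} (hr : r < chevE6.nroots) (t : K) :
    (TT).σ (xG hE r t) = xG hE (rhoN r) (φ t) := by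
  obtain ⟨e, he, h1⟩ := (TT).σ_x (⟨r, hr⟩ : Fin chevE6.nroots)
  have he1 : e = 1 := he.elim id fun h => h.trans (CharTwo.neg_eq 1)
  have hs : (((TT).ρ ⟨r, hr⟩ : Fin chevE6.nroots) : ℕ) = rhoN r := rho_chk ⟨r, hr⟩
  rw [← hs]
  have := h1 t
  rwa [he1, one_mul] at this

theorem σ_wordG : ∀ (l : List (ℕ × K)), (∀ p ∈ l, p.1 < chevE6.nroots) →
    (TT).σ (wordG hE l) = wordG hE (l.map fun p => (rhoN p.1, φ p.2))
  | [], _ => by simp [wordG]
  | p :: l, h => by
    rw [List.map_cons, wordG_cons, wordG_cons, map_mul, σ_root (h p (List.mem_cons_self ..)),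
      σ_wordG l fun q hq => h q (List.mem_cons_of_mem _ hq)]

/-- Parameters fixed by the twist. -/
def Fixed (φ : K →+* K) (t : ℕ → K) : Prop := ∀ r, 36 ≤ r → r < 72 → t (rhoN r) = φ (t r)

theorem σ_kProd (t : ℕ → K) : (TT).σ (kProd t) = kProd fun x => φ (t (rhoN x)) := by
  rw [kProd, σ_wordG _ (by
    intro p hp
    obtain ⟨r, hr, rfl⟩ := List.mem_map.1 hp
    exact ordL_lt hr)]
  have e : wordC hE (fun x => φ (t (rhoN x))) (ordL.map fun r => (rhoN r, CE.var (rhoN r))) =
      wordG hE ((ordL.map fun r => (r, t r)).map fun p => (rhoN p.1, φ p.2)) := by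
    simp only [wordC, List.map_map]
    refine congrArg (wordG hE) (List.map_congr_left fun r hr => ?_)
    simp [CE.val, (rhoN_range (ordL_range hr).1 (ordL_range hr).2).2.2]
  rw [← e, wordC_collPoly hE _ keyT 400]
  have hs := sigW_chk
  rw [beq_iff_eq, sigW] at hs
  rw [hs]
  simp [kProd, CE.pval, Function.comp_def]

theorem kProd_mem_U1 {t : ℕ → K} (ht : Fixed φ t) : kProd t ∈ (TT).U1 := by
  refine ⟨kProd_mem t, (TT).mem_fx.2 ?_⟩
  rw [σ_kProd]
  refine kProd_congr fun r hr => ?_
  obtain ⟨h1, h2⟩ := ordL_range hr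
  rw [ht r h1 h2, phi2 hφ]

theorem exists_fixed {g : GL chevE6.Idx K} (hg : g ∈ (TT).U1) :
    ∃ t, Fixed φ t ∧ g = kProd t := by
  obtain ⟨t, rfl⟩ := exists_kProd hg.1
  have h := kProd_inj (K := K) ((σ_kProd (hφ := hφ) t).symm.trans ((TT).mem_fx.1 hg.2))
  refine ⟨t, fun r h1 h2 => ?_, rfl⟩
  obtain ⟨a, b, c⟩ := rhoN_range h1 h2
  rw [← h (rhoN r) (mem_ordL a b), c]

end E6Invol

end Cfsg.Agent.Chev
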