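import Cfsg.Agent.Chev.E6Invol.Verifier

/-! The certificate for the classes of involutions of `²E₆` in characteristic two, found by a
search. -/

set_option autoImplicit false
set_option maxRecDepth 100000

namespace Cfsg.Agent.Chev

namespace E6Invol

/-- The representatives. -/
def reps : List (List ℕ) := [[71], [66, 68], [54, 64, 69]]

/-- The representatives and an element conjugate to the second. -/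
def repsX : List (List ℕ) := [[71], [66, 68], [66, 68, 71], [54, 64, 69]]

/-- Some nodes. -/
def nodes0 : List Node := [
  ⟨[], [], .one⟩,
  ⟨[71], [71], .leaf 0 [[0], [1], [0], [0], [0], [0]] 0 [.wd []]⟩,
  ⟨[71], [], .split 71 0 1⟩,
  ⟨[70], [70], .leaf 0 [[0], [-1], [0], [0], [0], [0]] 0 [.wd [3]]⟩,
  ⟨[70, 71], [70], .kill 46 71 3 0 (.fix [70, 100])⟩,
  ⟨[70, 71], [], .split 70 2 4⟩,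
  ⟨[69], [69], .leaf 0 [[0], [0], [1], [0], [0], [0]] 0 [.wd [3, 2]]⟩,
  ⟨[69, 71], [69], .kill 47 71 6 0 (.fix [69, 100])⟩,
  ⟨[69, 70, 71], [69], .kill 39 70 7 0 (.fix [69, 100])⟩,
  ⟨[69, 70, 71], [], .split 69 5 8⟩,
  ⟨[66, 68], [66, 68], .leaf 0 [[1, 1], [0, 0], [0, 1], [0, 0], [0, 0], [0, 0]] 1 [.wd []]⟩,
  ⟨[66, 68, 71], [66, 68], .kill 48 71 10 0 (.tr [68, 100] [66, 101])⟩,
  ⟨[66, 68, 70, 71], [66, 68], .kill 40 70 11 0 (.tr [68, 100] [66, 101])⟩,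
  ⟨[66, 68, 69, 70, 71], [66, 68], .kill 37 69 12 0 (.tr [68, 100] [66, 101])⟩,
  ⟨[66, 68, 69, 70, 71], [], .split 66 9 13⟩,
  ⟨[65], [65], .leaf 0 [[1], [0], [0], [0], [0], [0]] 0 [.wd [3, 2, 1]]⟩,
  ⟨[65, 69], [65, 69], .leaf 0 [[1, 1], [0, 0], [0, 1], [0, 0], [0, 0], [0, 0]] 2 [.cj 37, .wd [3, 2, 1]]⟩,
  ⟨[65, 69], [65], .split 69 15 16⟩,
  ⟨[65, 69, 71], [65], .kill 51 71 17 0 (.fix [65, 100])⟩,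
  ⟨[65, 69, 70, 71], [65], .kill 44 70 18 0 (.fix [65, 100])⟩,
  ⟨[65, 66, 68, 69, 70, 71], [65], .kill 37 66 19 0 (.free [65, 100])⟩,
  ⟨[65, 66, 68, 69, 70, 71], [], .split 65 14 20⟩,
  ⟨[63], [63], .leaf 0 [[1], [0], [0], [0], [0], [0]] 0 [.wd [3, 2, 1, 2]]⟩,
  ⟨[63, 70], [63, 70], .leaf 0 [[1, 1], [0, -1], [0, 0], [0, 0], [0, 0], [0, 0]] 2 [.cj 40, .wd [3, 2, 1, 2]]⟩,
  ⟨[63, 70], [63], .split 70 22 23⟩,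
  ⟨[63, 70, 71], [63], .kill 53 71 24 0 (.fix [63, 100])⟩,
  ⟨[63, 69, 70, 71], [63], .kill 44 69 25 0 (.fix [63, 100])⟩,
  ⟨[63, 66, 68, 69, 70, 71], [63], .kill 40 66 26 0 (.free [63, 100])⟩,
  ⟨[63, 65, 66, 68, 69, 70, 71], [63], .kill 39 65 27 0 (.fix [63, 100])⟩,
  ⟨[63, 65, 66, 68, 69, 70, 71], [], .split 63 21 28⟩,
  ⟨[60], [60], .leaf 0 [[1], [0], [0], [0], [0], [0]] 0 [.wd [3, 2, 1, 2, 3]]⟩,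
  ⟨[60, 71], [60, 71], .leaf 0 [[1, 1], [0, 1], [0, 0], [0, 0], [0, 0], [0, 0]] 2 [.cj 48, .wd [3, 2, 1, 2, 3]]⟩,
  ⟨[60, 71], [60], .split 71 30 31⟩,
  ⟨[60, 70, 71], [60], .kill 53 70 32 0 (.fix [60, 100])⟩,
  ⟨[60, 69, 70, 71], [60], .kill 51 69 33 0 (.fix [60, 100])⟩,
  ⟨[60, 66, 68, 69, 70, 71], [60], .kill 48 66 34 0 (.free [60, 100])⟩,
  ⟨[60, 65, 66, 68, 69, 70, 71], [60], .kill 47 65 35 0 (.fix [60, 100])⟩,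
  ⟨[60, 63, 65, 66, 68, 69, 70, 71], [60], .kill 46 63 36 0 (.fix [60, 100])⟩,
  ⟨[60, 63, 65, 66, 68, 69, 70, 71], [], .split 60 29 37⟩,
  ⟨[55, 67], [55, 67], .leaf 0 [[-1, 0], [0, 0], [0, 1], [0, 0], [0, 0], [0, 0]] 1 [.wd [0]]⟩,
  ⟨[55, 67, 65], [55, 67, 65], .leaf 0 [[-1, 0, 0], [0, 0, 0], [0, 1, 0], [1, 1, 1], [0, 0, 0], [0, 0, 0]] 3 [.wd [1]]⟩,
  ⟨[55, 67, 65], [55, 67], .split 65 39 40⟩,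
  ⟨[55, 67, 63], [55, 67, 63], .leaf 0 [[-1, 0, 0], [1, 0, 1], [0, 1, 0], [0, 0, 0], [0, 0, 0], [0, 0, 0]] 3 [.wd [1, 2]]⟩,
  ⟨[55, 67, 63, 65], [55, 67, 63], .kill 39 65 42 0 (.fix [63, 100])⟩,
  ⟨[55, 67, 63, 65], [55, 67], .split 63 41 43⟩,
  ⟨[55, 67, 60], [55, 67, 60], .leaf 0 [[-1, 0, 0], [-1, 0, -1], [0, 1, 0], [0, 0, 0], [0, 0, 0], [0, 0, 0]] 3 [.wd [1, 2, 3]]⟩,
  ⟨[55, 67, 60, 65], [55, 67, 60], .kill 47 65 45 0 (.fix [60, 100])⟩,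
  ⟨[55, 67, 60, 63, 65], [55, 67, 60], .kill 46 63 46 0 (.fix [60, 100])⟩,
  ⟨[55, 67, 60, 63, 65], [55, 67], .split 60 44 47⟩,
  ⟨[55, 67, 60, 63, 65, 71], [55, 67], .kill 49 71 48 0 (.tr [67, 100] [55, 101])⟩,
  ⟨[55, 67, 60, 63, 65, 70, 71], [55, 67], .kill 41 70 49 0 (.tr [67, 100] [55, 101])⟩,
  ⟨[55, 67, 60, 63, 65, 69, 70, 71], [55, 67], .kill 38 69 50 0 (.tr [67, 100] [55, 101])⟩,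
  ⟨[55, 67, 60, 63, 65, 66, 68, 69, 70, 71], [55, 67], .kill 56 66 51 0 (.free [55, 100])⟩,
  ⟨[55, 67, 60, 63, 65, 66, 68, 69, 70, 71], [], .split 55 38 52⟩,
  ⟨[54, 64], [54, 64], .leaf 0 [[-1, 0], [0, 0], [-1, -1], [0, 0], [0, 0], [0, 0]] 1 [.wd [0, 1]]⟩,
  ⟨[54, 64, 69], [54, 64, 69], .leaf 0 [[0, 1, 1], [0, 0, 0], [1, 1, 2], [1, 1, 1], [0, 0, 0], [0, 0, 0]] 3 [.wd []]⟩,
  ⟨[54, 64, 69], [54, 64], .split 69 54 55⟩,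
  ⟨[54, 64, 63], [54, 64, 63], .leaf 0 [[-1, 0, 0], [1, 0, 1], [-1, -1, 0], [0, 0, 0], [0, 0, 0], [0, 0, 0]] 3 [.wd [1, 2, 1]]⟩,
  ⟨[54, 64, 63, 69], [54, 64, 63], .kill 44 69 57 0 (.fix [63, 100])⟩,
  ⟨[54, 64, 63, 69], [54, 64], .split 63 56 58⟩,
  ⟨[54, 64, 60], [54, 64, 60], .leaf 0 [[-1, 0, 0], [-1, 0, -1], [-1, -1, 0], [0, 0, 0], [0, 0, 0], [0, 0, 0]] 3 [.wd [1, 2, 1, 3]]⟩,
  ⟨[54, 64, 60, 69], [54, 64, 60], .kill 51 69 60 0 (.fix [60, 100])⟩,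
  ⟨[54, 64, 60, 63, 69], [54, 64, 60], .kill 46 63 61 0 (.fix [60, 100])⟩,
  ⟨[54, 64, 60, 63, 69], [54, 64], .split 60 59 62⟩,
  ⟨[54, 64, 60, 63, 69, 71], [54, 64], .kill 52 71 63 0 (.tr [64, 100] [54, 101])⟩,
  ⟨[54, 64, 60, 63, 69, 70, 71], [54, 64], .kill 45 70 64 0 (.tr [64, 100] [54, 101])⟩,
  ⟨[54, 64, 60, 63, 66, 68, 69, 70, 71], [54, 64], .kill 38 66 65 0 (.free [64, 100])⟩,
  ⟨[54, 64, 60, 63, 65, 66, 68, 69, 70, 71], [54, 64], .kill 36 65 66 0 (.tr [64, 100] [54, 101])⟩,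
  ⟨[54, 64, 55, 67, 60, 63, 65, 66, 68, 69, 70, 71], [54, 64], .kill 37 55 67 0 (.free [54, 100])⟩,
  ⟨[54, 64, 55, 67, 60, 63, 65, 66, 68, 69, 70, 71], [], .split 54 53 68⟩,
  ⟨[52, 62], [52, 62], .leaf 0 [[0, 1], [0, 0], [1, 1], [0, 0], [0, 0], [0, 0]] 1 [.wd [0, 1, 2]]⟩,
  ⟨[52, 62, 70], [52, 62, 70], .leaf 0 [[0, 1, 1], [0, 0, -1], [1, 1, 2], [0, 0, 0], [0, 0, 0], [0, 0, 0]] 3 [.wd [2]]⟩,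
  ⟨[52, 62, 70], [52, 62], .split 70 70 71⟩,
  ⟨[52, 62, 65], [52, 62, 65], .leaf 0 [[-1, 1, -1], [1, 0, 1], [-1, 1, -2], [0, 0, 0], [0, 0, 0], [0, 0, 0]] 3 [.wd [1, 2, 1, 2]]⟩,
  ⟨[52, 62, 65, 70], [52, 62, 65], .kill 44 70 73 0 (.fix [65, 100])⟩,
  ⟨[52, 62, 65, 70], [52, 62], .split 65 72 74⟩,
  ⟨[52, 62, 60], [52, 62, 60], .leaf 0 [[0, 0, 1], [0, 0, 0], [1, -1, 2], [0, -1, 1], [0, 0, 0], [0, 0, 0]] 3 [.wd [1, 2, 1, 3, 2]]⟩,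
  ⟨[52, 62, 60, 70], [52, 62, 60], .kill 53 70 76 0 (.fix [60, 100])⟩,
  ⟨[52, 62, 60, 65, 70], [52, 62, 60], .kill 47 65 77 0 (.fix [60, 100])⟩,
  ⟨[52, 62, 60, 65, 70], [52, 62], .split 60 75 78⟩,
  ⟨[52, 62, 60, 65, 70, 71], [52, 62], .kill 54 71 79 0 (.tr [62, 100] [52, 101])⟩,
  ⟨[52, 62, 60, 65, 69, 70, 71], [52, 62], .kill 45 69 80 0 (.tr [62, 100] [52, 101])⟩,
  ⟨[52, 62, 60, 65, 66, 68, 69, 70, 71], [52, 62], .kill 41 66 81 0 (.free [62, 100])⟩,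
  ⟨[52, 62, 60, 63, 65, 66, 68, 69, 70, 71], [52, 62], .kill 36 63 82 0 (.tr [62, 100] [52, 101])⟩,
  ⟨[52, 62, 55, 67, 60, 63, 65, 66, 68, 69, 70, 71], [52, 62], .kill 40 55 83 0 (.free [52, 100])⟩,
  ⟨[52, 62, 54, 64, 55, 67, 60, 63, 65, 66, 68, 69, 70, 71], [52, 62], .kill 39 54 84 0 (.rel [52, 100] 71 [54, 62] [52, 64] [])⟩,
  ⟨[52, 62, 54, 64, 55, 67, 60, 63, 65, 66, 68, 69, 70, 71], [], .split 52 69 85⟩,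
  ⟨[45, 59], [45, 59], .leaf 0 [[0, 1], [0, 0], [1, 1], [0, 0], [0, 0], [0, 0]] 1 [.wd [0, 1, 2, 3]]⟩,
  ⟨[45, 59, 71], [45, 59, 71], .leaf 0 [[0, 1, 1], [0, 0, 1], [1, 1, 2], [0, 0, 0], [0, 0, 0], [0, 0, 0]] 3 [.wd [2, 3]]⟩,
  ⟨[45, 59, 71], [45, 59], .split 71 87 88⟩,
  ⟨[45, 59, 65], [45, 59, 65], .leaf 0 [[-1, 1, -1], [-1, 0, -1], [-1, 1, -2], [0, 0, 0], [0, 0, 0], [0, 0, 0]] 3 [.wd [1, 2, 1, 2, 3]]⟩,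
  ⟨[45, 59, 65, 71], [45, 59, 65], .kill 51 71 90 0 (.fix [65, 100])⟩,
  ⟨[45, 59, 65, 71], [45, 59], .split 65 89 91⟩,
  ⟨[45, 59, 63], [45, 59, 63], .leaf 0 [[0, 1, 0], [0, 0, 0], [1, 1, 0], [0, 1, -1], [0, 0, 0], [0, 0, 0]] 3 [.wd [1, 2, 1, 2, 3, 2]]⟩,
  ⟨[45, 59, 63, 71], [45, 59, 63], .kill 53 71 93 0 (.fix [63, 100])⟩,
  ⟨[45, 59, 63, 65, 71], [45, 59, 63], .kill 39 65 94 0 (.fix [63, 100])⟩,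
  ⟨[45, 59, 63, 65, 71], [45, 59], .split 63 92 95⟩,
  ⟨[45, 59, 63, 65, 70, 71], [45, 59], .kill 54 70 96 0 (.tr [59, 100] [45, 101])⟩,
  ⟨[45, 59, 63, 65, 69, 70, 71], [45, 59], .kill 52 69 97 0 (.tr [59, 100] [45, 101])⟩,
  ⟨[45, 59, 63, 65, 66, 68, 69, 70, 71], [45, 59], .kill 49 66 98 0 (.free [59, 100])⟩,
  ⟨[45, 59, 60, 63, 65, 66, 68, 69, 70, 71], [45, 59], .kill 36 60 99 0 (.tr [59, 100] [45, 101])⟩,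
  ⟨[45, 59, 55, 67, 60, 63, 65, 66, 68, 69, 70, 71], [45, 59], .kill 48 55 100 0 (.free [45, 100])⟩,
  ⟨[45, 59, 54, 64, 55, 67, 60, 63, 65, 66, 68, 69, 70, 71], [45, 59], .kill 47 54 101 0 (.rel [45, 100] 70 [54, 59] [45, 64] [])⟩,
  ⟨[45, 59, 52, 62, 54, 64, 55, 67, 60, 63, 65, 66, 68, 69, 70, 71], [45, 59], .kill 46 52 102 0 (.rel [45, 100] 69 [52, 59] [45, 62] [])⟩,
  ⟨[45, 59, 52, 62, 54, 64, 55, 67, 60, 63, 65, 66, 68, 69, 70, 71], [], .split 45 86 103⟩,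
  ⟨[49, 61], [49, 61], .leaf 0 [[-1, 1], [1, 0], [0, 0], [0, 0], [0, 0], [0, 0]] 1 [.wd [0, 1, 2, 1]]⟩,
  ⟨[49, 61, 70], [49, 61, 70], .leaf 0 [[0, 1, 1], [0, 0, -1], [-1, 0, -1], [0, 0, 0], [0, 0, 0], [0, 0, 0]] 3 [.wd [2, 1]]⟩,
  ⟨[49, 61, 70], [49, 61], .split 70 105 106⟩,
  ⟨[49, 61, 69], [49, 61, 69], .leaf 0 [[-1, 1, -1], [1, 0, 1], [0, 0, 1], [0, 0, 0], [0, 0, 0], [0, 0, 0]] 3 [.wd [2, 1, 2]]⟩,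
  ⟨[49, 61, 69, 70], [49, 61, 69], .kill 39 70 108 0 (.fix [69, 100])⟩,
  ⟨[49, 61, 69, 70], [49, 61], .split 69 107 109⟩,
  ⟨[49, 61, 60], [49, 61, 60], .leaf 0 [[1, 0, 1], [1, 0, 0], [0, 0, 0], [0, 0, 0], [2, -1, 1], [0, 0, 0]] 3 [.wd [1, 2, 1, 3, 2, 1]]⟩,
  ⟨[49, 61, 60, 70], [49, 61, 60], .kill 53 70 111 0 (.fix [60, 100])⟩,
  ⟨[49, 61, 60, 69, 70], [49, 61, 60], .kill 51 69 112 0 (.fix [60, 100])⟩,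
  ⟨[49, 61, 60, 69, 70], [49, 61], .split 60 110 113⟩,
  ⟨[49, 61, 60, 69, 70, 71], [49, 61], .kill 55 71 114 0 (.tr [61, 100] [49, 101])⟩,
  ⟨[49, 61, 60, 66, 68, 69, 70, 71], [49, 61], .kill 59 66 115 0 (.free [49, 100])⟩,
  ⟨[49, 61, 60, 65, 66, 68, 69, 70, 71], [49, 61], .kill 41 65 116 0 (.tr [61, 100] [49, 101])⟩,
  ⟨[49, 61, 60, 63, 65, 66, 68, 69, 70, 71], [49, 61], .kill 38 63 117 0 (.tr [61, 100] [49, 101])⟩,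
  ⟨[49, 61, 55, 67, 60, 63, 65, 66, 68, 69, 70, 71], [49, 61], .kill 44 55 118 0 (.rel [49, 100] 71 [55, 61] [49, 67] [])⟩,
  ⟨[49, 61, 54, 64, 55, 67, 60, 63, 65, 66, 68, 69, 70, 71], [49, 61], .kill 43 54 119 0 (.free [49, 100])⟩,
  ⟨[49, 61, 52, 62, 54, 64, 55, 67, 60, 63, 65, 66, 68, 69, 70, 71], [49, 61], .kill 42 52 120 0 (.free [49, 100])⟩,
  ⟨[49, 61, 45, 59, 52, 62, 54, 64, 55, 67, 60, 63, 65, 66, 68, 69, 70, 71], [49, 61], .zero 66 45 121⟩,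
  ⟨[49, 61, 45, 59, 52, 62, 54, 64, 55, 67, 60, 63, 65, 66, 68, 69, 70, 71], [], .split 49 104 122⟩,
  ⟨[41, 58], [41, 58], .leaf 0 [[-1, 1], [-1, 0], [0, 0], [0, 0], [0, 0], [0, 0]] 1 [.wd [0, 1, 2, 1, 3]]⟩,
  ⟨[41, 58, 71], [41, 58, 71], .leaf 0 [[0, 1, 1], [0, 0, 1], [-1, 0, -1], [0, 0, 0], [0, 0, 0], [0, 0, 0]] 3 [.wd [2, 1, 3]]⟩,
  ⟨[41, 58, 71], [41, 58], .split 71 124 125⟩,
  ⟨[41, 58, 69], [41, 58, 69], .leaf 0 [[-1, 1, -1], [-1, 0, -1], [0, 0, 1], [0, 0, 0], [0, 0, 0], [0, 0, 0]] 3 [.wd [2, 1, 2, 3]]⟩,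
  ⟨[41, 58, 69, 71], [41, 58, 69], .kill 47 71 127 0 (.fix [69, 100])⟩,
  ⟨[41, 58, 69, 71], [41, 58], .split 69 126 128⟩,
  ⟨[41, 58, 63], [41, 58, 63], .leaf 0 [[1, 0, 1], [-1, 0, 0], [0, 0, 0], [0, 0, 0], [2, -1, 1], [0, 0, 0]] 3 [.wd [1, 2, 1, 2, 3, 2, 1]]⟩,
  ⟨[41, 58, 63, 71], [41, 58, 63], .kill 53 71 130 0 (.fix [63, 100])⟩,
  ⟨[41, 58, 63, 69, 71], [41, 58, 63], .kill 44 69 131 0 (.fix [63, 100])⟩,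
  ⟨[41, 58, 63, 69, 71], [41, 58], .split 63 129 132⟩,
  ⟨[41, 58, 63, 69, 70, 71], [41, 58], .kill 55 70 133 0 (.tr [58, 100] [41, 101])⟩,
  ⟨[41, 58, 63, 66, 68, 69, 70, 71], [41, 58], .kill 62 66 134 0 (.free [41, 100])⟩,
  ⟨[41, 58, 63, 65, 66, 68, 69, 70, 71], [41, 58], .kill 49 65 135 0 (.tr [58, 100] [41, 101])⟩,
  ⟨[41, 58, 60, 63, 65, 66, 68, 69, 70, 71], [41, 58], .kill 38 60 136 0 (.tr [58, 100] [41, 101])⟩,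
  ⟨[41, 58, 55, 67, 60, 63, 65, 66, 68, 69, 70, 71], [41, 58], .kill 51 55 137 0 (.rel [41, 100] 70 [55, 58] [41, 67] [])⟩,
  ⟨[41, 58, 54, 64, 55, 67, 60, 63, 65, 66, 68, 69, 70, 71], [41, 58], .kill 50 54 138 0 (.free [41, 100])⟩,
  ⟨[41, 58, 45, 59, 54, 64, 55, 67, 60, 63, 65, 66, 68, 69, 70, 71], [41, 58], .kill 42 45 139 0 (.free [41, 100])⟩,
  ⟨[41, 58, 45, 59, 52, 62, 54, 64, 55, 67, 60, 63, 65, 66, 68, 69, 70, 71], [41, 58], .zero 66 52 140⟩,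
  ⟨[41, 58, 49, 61, 45, 59, 52, 62, 54, 64, 55, 67, 60, 63, 65, 66, 68, 69, 70, 71], [41, 58], .kill 46 49 141 0 (.rel [41, 100] 65 [49, 58] [41, 61] [])⟩,
  ⟨[41, 58, 49, 61, 45, 59, 52, 62, 54, 64, 55, 67, 60, 63, 65, 66, 68, 69, 70, 71], [], .split 41 123 142⟩,
  ⟨[38, 57], [38, 57], .leaf 0 [[-1, 1], [0, 0], [0, 0], [-1, 0], [0, 0], [0, 0]] 1 [.wd [0, 1, 2, 1, 3, 2]]⟩,
  ⟨[38, 57, 71], [38, 57, 71], .leaf 0 [[-1, 1, 0], [0, 0, 1], [0, 0, 0], [-1, 0, 0], [0, 0, 0], [0, 0, 0]] 3 [.wd [2, 1, 3, 2]]⟩,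
  ⟨[38, 57, 71], [38, 57], .split 71 144 145⟩,
  ⟨[38, 57, 70], [38, 57, 70], .leaf 0 [[-1, 1, 0], [-1, 0, -1], [0, 0, 0], [-1, 0, 0], [0, 0, 0], [0, 0, 0]] 3 [.wd [2, 1, 2, 3, 2]]⟩,
  ⟨[38, 57, 70, 71], [38, 57, 70], .kill 46 71 147 0 (.fix [70, 100])⟩,
  ⟨[38, 57, 70, 71], [38, 57], .split 70 146 148⟩,
  ⟨[38, 57, 65], [38, 57, 65], .leaf 0 [[1, 0, 1], [0, 0, 0], [0, 0, 0], [1, -1, 1], [2, -1, 1], [0, 0, 0]] 3 [.wd [1, 2, 1, 2, 3, 2, 1, 2]]⟩,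
  ⟨[38, 57, 65, 71], [38, 57, 65], .kill 51 71 150 0 (.fix [65, 100])⟩,
  ⟨[38, 57, 65, 70, 71], [38, 57, 65], .kill 44 70 151 0 (.fix [65, 100])⟩,
  ⟨[38, 57, 65, 70, 71], [38, 57], .split 65 149 152⟩,
  ⟨[38, 57, 65, 69, 70, 71], [38, 57], .kill 55 69 153 0 (.tr [57, 100] [38, 101])⟩,
  ⟨[38, 57, 65, 66, 68, 69, 70, 71], [38, 57], .kill 64 66 154 0 (.free [38, 100])⟩,
  ⟨[38, 57, 63, 65, 66, 68, 69, 70, 71], [38, 57], .kill 49 63 155 0 (.tr [57, 100] [38, 101])⟩,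
  ⟨[38, 57, 60, 63, 65, 66, 68, 69, 70, 71], [38, 57], .kill 41 60 156 0 (.tr [57, 100] [38, 101])⟩,
  ⟨[38, 57, 55, 67, 60, 63, 65, 66, 68, 69, 70, 71], [38, 57], .kill 53 55 157 0 (.rel [38, 100] 69 [55, 57] [38, 67] [])⟩,
  ⟨[38, 57, 52, 62, 55, 67, 60, 63, 65, 66, 68, 69, 70, 71], [38, 57], .kill 50 52 158 0 (.free [38, 100])⟩,
  ⟨[38, 57, 45, 59, 52, 62, 55, 67, 60, 63, 65, 66, 68, 69, 70, 71], [38, 57], .kill 43 45 159 0 (.free [38, 100])⟩,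
  ⟨[38, 57, 45, 59, 52, 62, 54, 64, 55, 67, 60, 63, 65, 66, 68, 69, 70, 71], [38, 57], .zero 66 54 160⟩,
  ⟨[38, 57, 49, 61, 45, 59, 52, 62, 54, 64, 55, 67, 60, 63, 65, 66, 68, 69, 70, 71], [38, 57], .kill 47 49 161 0 (.rel [38, 100] 63 [49, 57] [38, 61] [])⟩,
  ⟨[38, 57, 41, 58, 49, 61, 45, 59, 52, 62, 54, 64, 55, 67, 60, 63, 65, 66, 68, 69, 70, 71], [38, 57], .kill 39 41 162 0 (.rel [38, 100] 60 [41, 57] [38, 58] [])⟩,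
  ⟨[38, 57, 41, 58, 49, 61, 45, 59, 52, 62, 54, 64, 55, 67, 60, 63, 65, 66, 68, 69, 70, 71], [], .split 38 143 163⟩,
  ⟨[36, 56], [36, 56], .leaf 0 [[0, 0], [0, 0], [0, -1], [0, 0], [-1, 0], [0, 0]] 1 [.wd [0, 1, 2, 1, 3, 2, 1]]⟩,
  ⟨[36, 56, 71], [36, 56, 71], .leaf 0 [[0, 0, 0], [0, 0, 1], [0, -1, 0], [0, 0, 0], [-1, 0, 0], [0, 0, 0]] 3 [.wd [2, 1, 3, 2, 1]]⟩,
  ⟨[36, 56, 71], [36, 56], .split 71 165 166⟩,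
  ⟨[36, 56, 70], [36, 56, 70], .leaf 0 [[0, 0, 0], [0, 0, -1], [0, -1, 0], [0, 0, 0], [-1, 0, 0], [0, 0, 0]] 3 [.wd [2, 1, 2, 3, 2, 1]]⟩,
  ⟨[36, 56, 70, 71], [36, 56, 70], .kill 46 71 168 0 (.fix [70, 100])⟩,
  ⟨[36, 56, 70, 71], [36, 56], .split 70 167 169⟩,
  ⟨[36, 56, 69], [36, 56, 69], .leaf 0 [[0, 0, 0], [0, 0, 0], [0, -1, 0], [-1, -1, -1], [-1, 0, 0], [0, 0, 0]] 3 [.wd [2, 1, 2, 3, 2, 1, 2]]⟩,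
  ⟨[36, 56, 69, 71], [36, 56, 69], .kill 47 71 171 0 (.fix [69, 100])⟩,
  ⟨[36, 56, 69, 70, 71], [36, 56, 69], .kill 39 70 172 0 (.fix [69, 100])⟩,
  ⟨[36, 56, 69, 70, 71], [36, 56], .split 69 170 173⟩]

/-- Some nodes. -/
def nodes1 : List Node := [
  ⟨[36, 56, 66, 68, 69, 70, 71], [36, 56], .kill 55 66 174 0 (.free [56, 100])⟩,
  ⟨[36, 56, 65, 66, 68, 69, 70, 71], [36, 56], .kill 54 65 175 0 (.tr [56, 100] [36, 101])⟩,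
  ⟨[36, 56, 63, 65, 66, 68, 69, 70, 71], [36, 56], .kill 52 63 176 0 (.tr [56, 100] [36, 101])⟩,
  ⟨[36, 56, 60, 63, 65, 66, 68, 69, 70, 71], [36, 56], .kill 45 60 177 0 (.tr [56, 100] [36, 101])⟩,
  ⟨[36, 56, 54, 64, 60, 63, 65, 66, 68, 69, 70, 71], [36, 56], .kill 53 54 178 0 (.rel [36, 100] 65 [54, 56] [36, 64] [])⟩,
  ⟨[36, 56, 52, 62, 54, 64, 60, 63, 65, 66, 68, 69, 70, 71], [36, 56], .kill 51 52 179 0 (.rel [36, 100] 63 [52, 56] [36, 62] [])⟩,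
  ⟨[36, 56, 45, 59, 52, 62, 54, 64, 60, 63, 65, 66, 68, 69, 70, 71], [36, 56], .kill 44 45 180 0 (.rel [36, 100] 60 [45, 56] [36, 59] [])⟩,
  ⟨[36, 56, 45, 59, 52, 62, 54, 64, 55, 67, 60, 63, 65, 66, 68, 69, 70, 71], [36, 56], .zero 66 55 181⟩,
  ⟨[36, 56, 49, 61, 45, 59, 52, 62, 54, 64, 55, 67, 60, 63, 65, 66, 68, 69, 70, 71], [36, 56], .kill 48 49 182 0 (.free [36, 100])⟩,
  ⟨[36, 56, 41, 58, 49, 61, 45, 59, 52, 62, 54, 64, 55, 67, 60, 63, 65, 66, 68, 69, 70, 71], [36, 56], .kill 40 41 183 0 (.free [36, 100])⟩,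
  ⟨[36, 56, 38, 57, 41, 58, 49, 61, 45, 59, 52, 62, 54, 64, 55, 67, 60, 63, 65, 66, 68, 69, 70, 71], [36, 56], .kill 37 38 184 0 (.free [36, 100])⟩,
  ⟨[36, 56, 38, 57, 41, 58, 49, 61, 45, 59, 52, 62, 54, 64, 55, 67, 60, 63, 65, 66, 68, 69, 70, 71], [], .split 36 164 185⟩,
  ⟨[53], [53], .leaf 0 [[-1], [0], [0], [0], [0], [0]] 0 [.wd [3, 2, 1, 0]]⟩,
  ⟨[53, 69], [53, 69], .leaf 0 [[-1, 0], [0, 0], [0, 1], [0, 0], [0, 0], [0, 0]] 2 [.cj 38, .wd [3, 2, 1, 0]]⟩,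
  ⟨[53, 69], [53], .split 69 187 188⟩,
  ⟨[53, 66, 68], [53, 66, 68], .leaf 0 [[0, 1, 1], [0, 0, 0], [0, 0, 1], [1, 1, 1], [0, 0, 0], [0, 0, 0]] 3 [.wd [1, 0]]⟩,
  ⟨[53, 66, 68, 69], [53, 66, 68], .kill 37 69 190 0 (.tr [68, 100] [66, 101])⟩,
  ⟨[53, 66, 68, 69], [53], .split 66 189 191⟩,
  ⟨[53, 65], [53, 65], .leaf 0 [[-1, 0], [0, 0], [-1, -1], [0, 0], [0, 0], [0, 0]] 2 [.cj 36, .wd [0, 3, 2, 1, 0]]⟩,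
  ⟨[53, 65, 69], [53, 65, 69], .leaf 0 [[0, 1, 1], [0, 0, 0], [1, 1, 2], [1, 1, 1], [0, 0, 0], [0, 0, 0]] 3 [.cj 37, .wd [0, 1], .cj 36, .cj 37, .wd [1]]⟩,
  ⟨[53, 65, 69], [53, 65], .split 69 193 194⟩,
  ⟨[53, 65, 66, 68, 69], [53, 65], .kill 37 66 195 0 (.free [65, 100])⟩,
  ⟨[53, 65, 66, 68, 69], [53], .split 65 192 196⟩,
  ⟨[53, 52, 62], [53, 52, 62], .leaf 0 [[-1, 0, 0], [1, 0, 1], [-2, 1, -1], [0, 0, 0], [0, 0, 0], [0, 0, 0]] 3 [.wd [1, 2, 1, 0, 2]]⟩,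
  ⟨[53, 52, 62, 65], [53, 52, 62, 65], .leaf 1 [[-2, 0, 0, 0], [1, 1, 1, 1], [-3, 1, -1, -1], [0, 0, 0, 0], [1, -1, 1, -1], [0, 0, 0, 0]] 3 [.cj 51, .cj 36, .cj 39, .wd [1, 2, 1, 0, 2]]⟩,
  ⟨[53, 52, 62, 65], [53, 52, 62], .split 65 198 199⟩,
  ⟨[53, 52, 62, 65, 69], [53, 52, 62], .kill 45 69 200 0 (.tr [62, 100] [52, 101])⟩,
  ⟨[53, 52, 62, 65, 66, 68, 69], [53, 52, 62], .kill 41 66 201 0 (.free [62, 100])⟩,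
  ⟨[53, 52, 62, 65, 66, 68, 69], [53], .split 52 197 202⟩,
  ⟨[53, 45, 59], [53, 45, 59], .leaf 0 [[-1, 0, 0], [-1, 0, -1], [-2, 1, -1], [0, 0, 0], [0, 0, 0], [0, 0, 0]] 3 [.wd [1, 2, 1, 0, 2, 3]]⟩,
  ⟨[53, 45, 59, 65], [53, 45, 59, 65], .leaf 1 [[-2, 0, 0, 0], [-1, -1, -1, -1], [-3, 1, -1, -1], [0, 0, 0, 0], [1, -1, 1, -1], [0, 0, 0, 0]] 3 [.cj 44, .cj 36, .cj 47, .wd [1, 2, 1, 0, 2, 3]]⟩,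
  ⟨[53, 45, 59, 65], [53, 45, 59], .split 65 204 205⟩,
  ⟨[53, 45, 59, 65, 69], [53, 45, 59], .kill 52 69 206 0 (.tr [59, 100] [45, 101])⟩,
  ⟨[53, 45, 59, 65, 66, 68, 69], [53, 45, 59], .kill 49 66 207 0 (.free [59, 100])⟩,
  ⟨[53, 45, 59, 52, 62, 65, 66, 68, 69], [53, 45, 59], .kill 46 52 208 0 (.rel [45, 100] 69 [52, 59] [45, 62] [])⟩,
  ⟨[53, 45, 59, 52, 62, 65, 66, 68, 69], [53], .split 45 203 209⟩,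
  ⟨[53, 49, 61], [53, 49, 61], .leaf 0 [[-1, 0, 0], [1, 0, 1], [1, -1, 1], [0, 0, 0], [0, 0, 0], [0, 0, 0]] 3 [.wd [1, 2, 1, 0, 2, 1]]⟩,
  ⟨[53, 49, 61, 69], [53, 49, 61, 69], .leaf 1 [[-1, -1, 1, -1], [1, 1, 1, 1], [1, -1, 1, 1], [1, -1, 1, -1], [0, 0, 0, 0], [0, 0, 0, 0]] 3 [.cj 47, .cj 38, .cj 44, .wd [1, 2, 1, 0, 2, 1]]⟩,
  ⟨[53, 49, 61, 69], [53, 49, 61], .split 69 211 212⟩,
  ⟨[53, 49, 61, 66, 68, 69], [53, 49, 61], .kill 59 66 213 0 (.free [49, 100])⟩,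
  ⟨[53, 49, 61, 65, 66, 68, 69], [53, 49, 61], .kill 41 65 214 0 (.tr [61, 100] [49, 101])⟩,
  ⟨[53, 49, 61, 52, 62, 65, 66, 68, 69], [53, 49, 61], .kill 42 52 215 0 (.free [49, 100])⟩,
  ⟨[53, 49, 61, 45, 59, 52, 62, 65, 66, 68, 69], [53, 49, 61], .zero 66 45 216⟩,
  ⟨[53, 49, 61, 45, 59, 52, 62, 65, 66, 68, 69], [53], .split 49 210 217⟩,
  ⟨[53, 41, 58], [53, 41, 58], .leaf 0 [[-1, 0, 0], [-1, 0, -1], [1, -1, 1], [0, 0, 0], [0, 0, 0], [0, 0, 0]] 3 [.wd [1, 2, 1, 0, 2, 1, 3]]⟩,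
  ⟨[53, 41, 58, 69], [53, 41, 58, 69], .leaf 1 [[-1, -1, 1, -1], [0, -2, 0, -2], [1, -1, 1, 1], [1, -1, 1, -1], [0, 0, 0, 0], [0, 0, 0, 0]] 3 [.cj 39, .cj 38, .cj 51, .wd [1, 2, 1, 0, 2, 1, 3]]⟩,
  ⟨[53, 41, 58, 69], [53, 41, 58], .split 69 219 220⟩,
  ⟨[53, 41, 58, 66, 68, 69], [53, 41, 58], .kill 62 66 221 0 (.free [41, 100])⟩,
  ⟨[53, 41, 58, 65, 66, 68, 69], [53, 41, 58], .kill 49 65 222 0 (.tr [58, 100] [41, 101])⟩,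
  ⟨[53, 41, 58, 45, 59, 65, 66, 68, 69], [53, 41, 58], .kill 42 45 223 0 (.free [41, 100])⟩,
  ⟨[53, 41, 58, 45, 59, 52, 62, 65, 66, 68, 69], [53, 41, 58], .zero 66 52 224⟩,
  ⟨[53, 41, 58, 49, 61, 45, 59, 52, 62, 65, 66, 68, 69], [53, 41, 58], .kill 46 49 225 0 (.rel [41, 100] 65 [49, 58] [41, 61] [])⟩,
  ⟨[53, 41, 58, 49, 61, 45, 59, 52, 62, 65, 66, 68, 69], [53], .split 41 218 226⟩,
  ⟨[53, 41, 58, 49, 61, 45, 59, 52, 62, 65, 66, 68, 69, 71], [53], .kill 63 71 227 0 (.fix [53, 100])⟩,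
  ⟨[53, 41, 58, 49, 61, 45, 59, 52, 62, 65, 66, 68, 69, 70, 71], [53], .kill 60 70 228 0 (.fix [53, 100])⟩,
  ⟨[53, 41, 58, 49, 61, 45, 59, 52, 62, 63, 65, 66, 68, 69, 70, 71], [53], .zero 71 63 229⟩,
  ⟨[53, 41, 58, 49, 61, 45, 59, 52, 62, 60, 63, 65, 66, 68, 69, 70, 71], [53], .zero 70 60 230⟩,
  ⟨[53, 41, 58, 49, 61, 45, 59, 52, 62, 55, 67, 60, 63, 65, 66, 68, 69, 70, 71], [53], .kill 38 55 231 0 (.free [53, 100])⟩,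
  ⟨[53, 41, 58, 49, 61, 45, 59, 52, 62, 54, 64, 55, 67, 60, 63, 65, 66, 68, 69, 70, 71], [53], .kill 36 54 232 0 (.free [53, 100])⟩,
  ⟨[53, 38, 57, 41, 58, 49, 61, 45, 59, 52, 62, 54, 64, 55, 67, 60, 63, 65, 66, 68, 69, 70, 71], [53], .zero 55 38 233⟩,
  ⟨[53, 36, 56, 38, 57, 41, 58, 49, 61, 45, 59, 52, 62, 54, 64, 55, 67, 60, 63, 65, 66, 68, 69, 70, 71], [53], .zero 54 36 234⟩,
  ⟨[53, 36, 56, 38, 57, 41, 58, 49, 61, 45, 59, 52, 62, 54, 64, 55, 67, 60, 63, 65, 66, 68, 69, 70, 71], [], .split 53 186 235⟩,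
  ⟨[51], [51], .leaf 0 [[-1], [0], [0], [0], [0], [0]] 0 [.wd [3, 2, 1, 0, 2]]⟩,
  ⟨[51, 70], [51, 70], .leaf 0 [[-1, -1], [0, -1], [0, 0], [0, 0], [0, 0], [0, 0]] 2 [.cj 41, .wd [3, 2, 1, 0, 2]]⟩,
  ⟨[51, 70], [51], .split 70 237 238⟩,
  ⟨[51, 66, 68], [51, 66, 68], .leaf 0 [[0, 1, 1], [1, 1, 0], [0, 0, 1], [0, 0, 0], [0, 0, 0], [0, 0, 0]] 3 [.wd [1, 0, 2]]⟩,
  ⟨[51, 66, 68, 70], [51, 66, 68], .kill 40 70 240 0 (.tr [68, 100] [66, 101])⟩,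
  ⟨[51, 66, 68, 70], [51], .split 66 239 241⟩,
  ⟨[51, 63], [51, 63], .leaf 0 [[0, 1], [0, 0], [1, 1], [0, 0], [0, 0], [0, 0]] 2 [.cj 36, .wd [0, 3, 2, 1, 0, 2]]⟩,
  ⟨[51, 63, 70], [51, 63, 70], .leaf 0 [[0, 1, 1], [0, 0, -1], [1, 1, 2], [0, 0, 0], [0, 0, 0], [0, 0, 0]] 3 [.cj 40, .wd [0, 1, 2], .cj 36, .cj 37, .wd [1]]⟩,
  ⟨[51, 63, 70], [51, 63], .split 70 243 244⟩,
  ⟨[51, 63, 66, 68, 70], [51, 63], .kill 40 66 245 0 (.free [63, 100])⟩,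
  ⟨[51, 63, 66, 68, 70], [51], .split 63 242 246⟩,
  ⟨[51, 54, 64], [51, 54, 64], .leaf 0 [[0, -1, 0], [1, 0, 1], [0, -1, -1], [0, 0, 0], [0, 0, 0], [0, 0, 0]] 3 [.wd [1, 2, 1, 0]]⟩,
  ⟨[51, 54, 64, 63], [51, 54, 64, 63], .leaf 1 [[-1, -1, -1, 1], [1, 1, 1, 1], [-1, -1, -3, 1], [0, 0, 0, 0], [1, -1, 1, -1], [0, 0, 0, 0]] 3 [.wd [2], .cj 51, .cj 36, .cj 39, .wd [1, 2, 1, 0, 2]]⟩,
  ⟨[51, 54, 64, 63], [51, 54, 64], .split 63 248 249⟩,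
  ⟨[51, 54, 64, 63, 70], [51, 54, 64], .kill 45 70 250 0 (.tr [64, 100] [54, 101])⟩,
  ⟨[51, 54, 64, 63, 66, 68, 70], [51, 54, 64], .kill 38 66 251 0 (.free [64, 100])⟩,
  ⟨[51, 54, 64, 63, 66, 68, 70], [51], .split 54 247 252⟩,
  ⟨[51, 45, 59], [51, 45, 59], .leaf 0 [[0, 0, 1], [0, 0, 0], [0, 1, 1], [-1, 1, 0], [0, 0, 0], [0, 0, 0]] 3 [.wd [1, 2, 1, 0, 2, 3, 2]]⟩,
  ⟨[51, 45, 59, 63], [51, 45, 59, 63], .leaf 1 [[-1, 1, 1, 1], [0, 0, 0, 0], [-1, 3, 1, 1], [-1, 1, 1, -1], [1, -1, 1, -1], [0, 0, 0, 0]] 3 [.cj 44, .cj 36, .cj 46, .wd [1, 2, 1, 0, 2, 3, 2]]⟩,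
  ⟨[51, 45, 59, 63], [51, 45, 59], .split 63 254 255⟩,
  ⟨[51, 45, 59, 63, 70], [51, 45, 59], .kill 54 70 256 0 (.tr [59, 100] [45, 101])⟩,
  ⟨[51, 45, 59, 63, 66, 68, 70], [51, 45, 59], .kill 49 66 257 0 (.free [59, 100])⟩,
  ⟨[51, 45, 59, 54, 64, 63, 66, 68, 70], [51, 45, 59], .kill 47 54 258 0 (.rel [45, 100] 70 [54, 59] [45, 64] [])⟩,
  ⟨[51, 45, 59, 54, 64, 63, 66, 68, 70], [51], .split 45 253 259⟩,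
  ⟨[51, 49, 61], [51, 49, 61], .leaf 0 [[0, -1, 1], [0, 1, 0], [0, 0, 0], [-1, 2, -1], [0, 0, 0], [0, 0, 0]] 3 [.wd [1, 2, 1, 0, 2, 1, 2]]⟩,
  ⟨[51, 49, 61, 70], [51, 49, 61, 70], .leaf 1 [[-1, -1, 1, -1], [1, 1, 1, 1], [1, -1, 1, 1], [1, 1, 1, 3], [0, 0, 0, 0], [0, 0, 0, 0]] 3 [.cj 46, .cj 41, .cj 44, .wd [1, 2, 1, 0, 2, 1, 2]]⟩,
  ⟨[51, 49, 61, 70], [51, 49, 61], .split 70 261 262⟩,
  ⟨[51, 49, 61, 66, 68, 70], [51, 49, 61], .kill 59 66 263 0 (.free [49, 100])⟩,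
  ⟨[51, 49, 61, 63, 66, 68, 70], [51, 49, 61], .kill 38 63 264 0 (.tr [61, 100] [49, 101])⟩,
  ⟨[51, 49, 61, 54, 64, 63, 66, 68, 70], [51, 49, 61], .kill 43 54 265 0 (.free [49, 100])⟩,
  ⟨[51, 49, 61, 45, 59, 54, 64, 63, 66, 68, 70], [51, 49, 61], .zero 66 45 266⟩,
  ⟨[51, 49, 61, 45, 59, 54, 64, 63, 66, 68, 70], [51], .split 49 260 267⟩,
  ⟨[51, 38, 57], [51, 38, 57], .leaf 0 [[0, -1, 1], [1, -2, 1], [0, 0, 0], [0, -1, 0], [0, 0, 0], [0, 0, 0]] 3 [.wd [1, 2, 1, 0, 2, 1, 3, 2]]⟩,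
  ⟨[51, 38, 57, 70], [51, 38, 57, 70], .leaf 1 [[-1, -1, 1, -1], [0, -2, 0, -2], [1, -1, 1, 1], [0, -2, 0, 0], [0, 0, 0, 0], [0, 0, 0, 0]] 3 [.cj 60, .cj 41, .cj 53, .wd [1, 2, 1, 0, 2, 1, 3, 2]]⟩,
  ⟨[51, 38, 57, 70], [51, 38, 57], .split 70 269 270⟩,
  ⟨[51, 38, 57, 66, 68, 70], [51, 38, 57], .kill 64 66 271 0 (.free [38, 100])⟩,
  ⟨[51, 38, 57, 63, 66, 68, 70], [51, 38, 57], .kill 49 63 272 0 (.tr [57, 100] [38, 101])⟩,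
  ⟨[51, 38, 57, 45, 59, 63, 66, 68, 70], [51, 38, 57], .kill 43 45 273 0 (.free [38, 100])⟩,
  ⟨[51, 38, 57, 45, 59, 54, 64, 63, 66, 68, 70], [51, 38, 57], .zero 66 54 274⟩,
  ⟨[51, 38, 57, 49, 61, 45, 59, 54, 64, 63, 66, 68, 70], [51, 38, 57], .kill 47 49 275 0 (.rel [38, 100] 63 [49, 57] [38, 61] [])⟩,
  ⟨[51, 38, 57, 49, 61, 45, 59, 54, 64, 63, 66, 68, 70], [51], .split 38 268 276⟩,
  ⟨[51, 38, 57, 49, 61, 45, 59, 54, 64, 63, 66, 68, 70, 71], [51], .kill 65 71 277 0 (.fix [51, 100])⟩,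
  ⟨[51, 38, 57, 49, 61, 45, 59, 54, 64, 63, 66, 68, 69, 70, 71], [51], .kill 60 69 278 0 (.fix [51, 100])⟩,
  ⟨[51, 38, 57, 49, 61, 45, 59, 54, 64, 63, 65, 66, 68, 69, 70, 71], [51], .zero 71 65 279⟩,
  ⟨[51, 38, 57, 49, 61, 45, 59, 54, 64, 60, 63, 65, 66, 68, 69, 70, 71], [51], .zero 69 60 280⟩,
  ⟨[51, 38, 57, 49, 61, 45, 59, 54, 64, 55, 67, 60, 63, 65, 66, 68, 69, 70, 71], [51], .kill 41 55 281 0 (.free [51, 100])⟩,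
  ⟨[51, 38, 57, 49, 61, 45, 59, 52, 62, 54, 64, 55, 67, 60, 63, 65, 66, 68, 69, 70, 71], [51], .kill 36 52 282 0 (.free [51, 100])⟩,
  ⟨[51, 38, 57, 41, 58, 49, 61, 45, 59, 52, 62, 54, 64, 55, 67, 60, 63, 65, 66, 68, 69, 70, 71], [51], .zero 55 41 283⟩,
  ⟨[51, 53, 38, 57, 41, 58, 49, 61, 45, 59, 52, 62, 54, 64, 55, 67, 60, 63, 65, 66, 68, 69, 70, 71], [51], .kill 39 53 284 0 (.fix [51, 100])⟩,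
  ⟨[51, 53, 36, 56, 38, 57, 41, 58, 49, 61, 45, 59, 52, 62, 54, 64, 55, 67, 60, 63, 65, 66, 68, 69, 70, 71], [51], .zero 52 36 285⟩,
  ⟨[51, 53, 36, 56, 38, 57, 41, 58, 49, 61, 45, 59, 52, 62, 54, 64, 55, 67, 60, 63, 65, 66, 68, 69, 70, 71], [], .split 51 236 286⟩,
  ⟨[44], [44], .leaf 0 [[-1], [0], [0], [0], [0], [0]] 0 [.wd [3, 2, 1, 0, 2, 3]]⟩,
  ⟨[44, 71], [44, 71], .leaf 0 [[-1, -1], [0, 1], [0, 0], [0, 0], [0, 0], [0, 0]] 2 [.cj 49, .wd [3, 2, 1, 0, 2, 3]]⟩,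
  ⟨[44, 71], [44], .split 71 288 289⟩,
  ⟨[44, 66, 68], [44, 66, 68], .leaf 0 [[0, 1, 1], [-1, -1, 0], [0, 0, 1], [0, 0, 0], [0, 0, 0], [0, 0, 0]] 3 [.wd [1, 0, 2, 3]]⟩,
  ⟨[44, 66, 68, 71], [44, 66, 68], .kill 48 71 291 0 (.tr [68, 100] [66, 101])⟩,
  ⟨[44, 66, 68, 71], [44], .split 66 290 292⟩,
  ⟨[44, 60], [44, 60], .leaf 0 [[0, 1], [0, 0], [1, 1], [0, 0], [0, 0], [0, 0]] 2 [.cj 36, .wd [0, 3, 2, 1, 0, 2, 3]]⟩,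
  ⟨[44, 60, 71], [44, 60, 71], .leaf 0 [[0, 1, 1], [0, 0, 1], [1, 1, 2], [0, 0, 0], [0, 0, 0], [0, 0, 0]] 3 [.cj 48, .wd [0, 1, 2, 3], .cj 36, .cj 37, .wd [1]]⟩,
  ⟨[44, 60, 71], [44, 60], .split 71 294 295⟩,
  ⟨[44, 60, 66, 68, 71], [44, 60], .kill 48 66 296 0 (.free [60, 100])⟩,
  ⟨[44, 60, 66, 68, 71], [44], .split 60 293 297⟩,
  ⟨[44, 54, 64], [44, 54, 64], .leaf 0 [[0, -1, 0], [-1, 0, -1], [0, -1, -1], [0, 0, 0], [0, 0, 0], [0, 0, 0]] 3 [.wd [1, 2, 1, 0, 3]]⟩,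
  ⟨[44, 54, 64, 60], [44, 54, 64, 60], .leaf 1 [[-1, -1, -1, 1], [-1, -1, -1, -1], [-1, -1, -3, 1], [0, 0, 0, 0], [1, -1, 1, -1], [0, 0, 0, 0]] 3 [.wd [3, 2], .cj 44, .cj 36, .cj 46, .wd [1, 2, 1, 0, 2, 3, 2]]⟩,
  ⟨[44, 54, 64, 60], [44, 54, 64], .split 60 299 300⟩,
  ⟨[44, 54, 64, 60, 71], [44, 54, 64], .kill 52 71 301 0 (.tr [64, 100] [54, 101])⟩,
  ⟨[44, 54, 64, 60, 66, 68, 71], [44, 54, 64], .kill 38 66 302 0 (.free [64, 100])⟩,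
  ⟨[44, 54, 64, 60, 66, 68, 71], [44], .split 54 298 303⟩,
  ⟨[44, 52, 62], [44, 52, 62], .leaf 0 [[1, -1, 1], [0, 0, 0], [2, -1, 1], [1, -1, 0], [0, 0, 0], [0, 0, 0]] 3 [.wd [1, 2, 1, 0, 3, 2]]⟩,
  ⟨[44, 52, 62, 60], [44, 52, 62, 60], .leaf 1 [[0, 0, 0, 2], [0, 0, 0, 0], [1, 1, -1, 3], [1, -1, -1, 1], [1, -1, 1, -1], [0, 0, 0, 0]] 3 [.wd [3], .cj 44, .cj 36, .cj 46, .wd [1, 2, 1, 0, 2, 3, 2]]⟩,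
  ⟨[44, 52, 62, 60], [44, 52, 62], .split 60 305 306⟩,
  ⟨[44, 52, 62, 60, 71], [44, 52, 62], .kill 54 71 307 0 (.tr [62, 100] [52, 101])⟩,
  ⟨[44, 52, 62, 60, 66, 68, 71], [44, 52, 62], .kill 41 66 308 0 (.free [62, 100])⟩,
  ⟨[44, 52, 62, 54, 64, 60, 66, 68, 71], [44, 52, 62], .kill 39 54 309 0 (.rel [52, 100] 71 [54, 62] [52, 64] [])⟩,
  ⟨[44, 52, 62, 54, 64, 60, 66, 68, 71], [44], .split 52 304 310⟩,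
  ⟨[44, 41, 58], [44, 41, 58], .leaf 0 [[0, -1, 1], [-1, 1, -1], [0, 0, 0], [-1, 2, -1], [0, 0, 0], [0, 0, 0]] 3 [.wd [1, 2, 1, 0, 2, 1, 2, 3]]⟩,
  ⟨[44, 41, 58, 71], [44, 41, 58, 71], .leaf 1 [[-1, -1, 1, -1], [0, 0, 0, 2], [1, -1, 1, 1], [1, 1, 1, 3], [0, 0, 0, 0], [0, 0, 0, 0]] 3 [.cj 65, .cj 49, .cj 51, .wd [1, 2, 1, 0, 2, 1, 2, 3]]⟩,
  ⟨[44, 41, 58, 71], [44, 41, 58], .split 71 312 313⟩,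
  ⟨[44, 41, 58, 66, 68, 71], [44, 41, 58], .kill 62 66 314 0 (.free [41, 100])⟩,
  ⟨[44, 41, 58, 60, 66, 68, 71], [44, 41, 58], .kill 38 60 315 0 (.tr [58, 100] [41, 101])⟩,
  ⟨[44, 41, 58, 54, 64, 60, 66, 68, 71], [44, 41, 58], .kill 50 54 316 0 (.free [41, 100])⟩,
  ⟨[44, 41, 58, 52, 62, 54, 64, 60, 66, 68, 71], [44, 41, 58], .zero 66 52 317⟩,
  ⟨[44, 41, 58, 52, 62, 54, 64, 60, 66, 68, 71], [44], .split 41 311 318⟩,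
  ⟨[44, 38, 57], [44, 38, 57], .leaf 0 [[0, -1, 1], [-1, 1, -1], [0, 0, 0], [0, -1, 0], [0, 0, 0], [0, 0, 0]] 3 [.wd [1, 2, 1, 0, 2, 1, 2, 3, 2]]⟩,
  ⟨[44, 38, 57, 71], [44, 38, 57, 71], .leaf 1 [[-1, -1, 1, -1], [0, 0, 0, 2], [1, -1, 1, 1], [0, -2, 0, 0], [0, 0, 0, 0], [0, 0, 0, 0]] 3 [.cj 63, .cj 49, .cj 53, .wd [1, 2, 1, 0, 2, 1, 2, 3, 2]]⟩,
  ⟨[44, 38, 57, 71], [44, 38, 57], .split 71 320 321⟩,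
  ⟨[44, 38, 57, 66, 68, 71], [44, 38, 57], .kill 64 66 322 0 (.free [38, 100])⟩,
  ⟨[44, 38, 57, 60, 66, 68, 71], [44, 38, 57], .kill 41 60 323 0 (.tr [57, 100] [38, 101])⟩,
  ⟨[44, 38, 57, 52, 62, 60, 66, 68, 71], [44, 38, 57], .kill 50 52 324 0 (.free [38, 100])⟩,
  ⟨[44, 38, 57, 52, 62, 54, 64, 60, 66, 68, 71], [44, 38, 57], .zero 66 54 325⟩,
  ⟨[44, 38, 57, 41, 58, 52, 62, 54, 64, 60, 66, 68, 71], [44, 38, 57], .kill 39 41 326 0 (.rel [38, 100] 60 [41, 57] [38, 58] [])⟩,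
  ⟨[44, 38, 57, 41, 58, 52, 62, 54, 64, 60, 66, 68, 71], [44], .split 38 319 327⟩,
  ⟨[44, 38, 57, 41, 58, 52, 62, 54, 64, 60, 66, 68, 70, 71], [44], .kill 65 70 328 0 (.fix [44, 100])⟩,
  ⟨[44, 38, 57, 41, 58, 52, 62, 54, 64, 60, 66, 68, 69, 70, 71], [44], .kill 63 69 329 0 (.fix [44, 100])⟩,
  ⟨[44, 38, 57, 41, 58, 52, 62, 54, 64, 60, 65, 66, 68, 69, 70, 71], [44], .zero 70 65 330⟩,
  ⟨[44, 38, 57, 41, 58, 52, 62, 54, 64, 60, 63, 65, 66, 68, 69, 70, 71], [44], .zero 69 63 331⟩,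
  ⟨[44, 38, 57, 41, 58, 52, 62, 54, 64, 55, 67, 60, 63, 65, 66, 68, 69, 70, 71], [44], .kill 49 55 332 0 (.free [44, 100])⟩,
  ⟨[44, 38, 57, 41, 58, 45, 59, 52, 62, 54, 64, 55, 67, 60, 63, 65, 66, 68, 69, 70, 71], [44], .kill 36 45 333 0 (.free [44, 100])⟩,
  ⟨[44, 38, 57, 41, 58, 49, 61, 45, 59, 52, 62, 54, 64, 55, 67, 60, 63, 65, 66, 68, 69, 70, 71], [44], .zero 55 49 334⟩,
  ⟨[44, 53, 38, 57, 41, 58, 49, 61, 45, 59, 52, 62, 54, 64, 55, 67, 60, 63, 65, 66, 68, 69, 70, 71], [44], .kill 47 53 335 0 (.fix [44, 100])⟩,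
  ⟨[44, 51, 53, 38, 57, 41, 58, 49, 61, 45, 59, 52, 62, 54, 64, 55, 67, 60, 63, 65, 66, 68, 69, 70, 71], [44], .kill 46 51 336 0 (.fix [44, 100])⟩,
  ⟨[44, 51, 53, 36, 56, 38, 57, 41, 58, 49, 61, 45, 59, 52, 62, 54, 64, 55, 67, 60, 63, 65, 66, 68, 69, 70, 71], [44], .zero 45 36 337⟩,
  ⟨[44, 51, 53, 36, 56, 38, 57, 41, 58, 49, 61, 45, 59, 52, 62, 54, 64, 55, 67, 60, 63, 65, 66, 68, 69, 70, 71], [], .split 44 287 338⟩,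
  ⟨[48, 50], [48, 50], .leaf 0 [[1, -1], [1, 0], [0, 0], [0, 0], [0, 0], [0, 0]] 1 [.wd [0, 1, 2, 1, 0]]⟩,
  ⟨[48, 50, 70], [48, 50, 70], .leaf 0 [[-1, -1, -2], [0, 0, -1], [-1, 0, -1], [0, 0, 0], [0, 0, 0], [0, 0, 0]] 3 [.wd [2, 1, 0]]⟩,
  ⟨[48, 50, 70], [48, 50], .split 70 340 341⟩,
  ⟨[48, 50, 69], [48, 50, 69], .leaf 0 [[1, -1, 2], [1, 0, 1], [0, 0, 1], [0, 0, 0], [0, 0, 0], [0, 0, 0]] 3 [.wd [2, 1, 0, 2]]⟩,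
  ⟨[48, 50, 69, 70], [48, 50, 69], .kill 39 70 343 0 (.fix [69, 100])⟩,
  ⟨[48, 50, 69, 70], [48, 50], .split 69 342 344⟩,
  ⟨[48, 50, 65], [48, 50, 65], .leaf 0 [[-1, 1, 2], [0, 1, 1], [-1, 1, 1], [0, 0, 0], [0, 0, 0], [0, 0, 0]] 3 [.wd [2, 1, 0, 2, 1]]⟩,
  ⟨[48, 50, 65, 69], [48, 50, 65, 69], .leaf 1 [[0, 0, 2, 2], [1, 1, 1, 1], [-1, 1, 1, 1], [-1, 1, 1, -1], [0, 0, 0, 0], [0, 0, 0, 0]] 3 [.cj 60, .cj 47, .cj 37, .wd [2, 1, 0, 2, 1]]⟩,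
  ⟨[48, 50, 65, 69], [48, 50, 65], .split 69 346 347⟩,
  ⟨[48, 50, 65, 69, 70], [48, 50, 65], .kill 44 70 348 0 (.fix [65, 100])⟩]

/-- Some nodes. -/
def nodes2 : List Node := [
  ⟨[48, 50, 65, 69, 70], [48, 50], .split 65 345 349⟩,
  ⟨[48, 50, 63], [48, 50, 63], .leaf 0 [[1, -1, 0], [1, 0, 0], [0, 0, 0], [2, -1, -1], [0, 0, 0], [0, 0, 0]] 3 [.wd [2, 1, 0, 2, 1, 2]]⟩,
  ⟨[48, 50, 63, 70], [48, 50, 63, 70], .leaf 1 [[0, 0, 2, 2], [1, 1, 1, 1], [-1, 1, 1, 1], [1, 1, 1, 3], [0, 0, 0, 0], [0, 0, 0, 0]] 3 [.cj 60, .cj 46, .cj 40, .wd [2, 1, 0, 2, 1, 2]]⟩,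
  ⟨[48, 50, 63, 70], [48, 50, 63], .split 70 351 352⟩,
  ⟨[48, 50, 63, 69, 70], [48, 50, 63], .kill 44 69 353 0 (.fix [63, 100])⟩,
  ⟨[48, 50, 63, 65, 69, 70], [48, 50, 63], .kill 39 65 354 0 (.fix [63, 100])⟩,
  ⟨[48, 50, 63, 65, 69, 70], [48, 50], .split 63 350 355⟩,
  ⟨[48, 50, 44], [48, 50, 44], .leaf 0 [[-1, -2, 1], [0, 0, 0], [-1, -1, 1], [0, 0, 0], [0, 0, 0], [0, 1, -1]] 3 [.wd [1, 2, 1, 3, 2, 1, 0]]⟩,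
  ⟨[48, 50, 44, 70], [48, 50, 44], .kill 65 70 357 0 (.fix [44, 100])⟩,
  ⟨[48, 50, 44, 69, 70], [48, 50, 44], .kill 63 69 358 0 (.fix [44, 100])⟩,
  ⟨[48, 50, 44, 65, 69, 70], [48, 50, 44], .zero 70 65 359⟩,
  ⟨[48, 50, 44, 63, 65, 69, 70], [48, 50, 44], .zero 69 63 360⟩,
  ⟨[48, 50, 44, 63, 65, 69, 70], [48, 50], .split 44 356 361⟩,
  ⟨[48, 50, 44, 63, 65, 69, 70, 71], [48, 50], .kill 66 71 362 0 (.tr [50, 100] [48, 101])⟩,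
  ⟨[48, 50, 44, 63, 65, 66, 68, 69, 70, 71], [48, 50], .kill 60 66 363 0 (.rel [48, 100] 71 [50, 66] [48, 68] [])⟩,
  ⟨[48, 50, 44, 55, 67, 63, 65, 66, 68, 69, 70, 71], [48, 50], .kill 45 55 364 0 (.free [48, 100])⟩,
  ⟨[48, 50, 44, 54, 64, 55, 67, 63, 65, 66, 68, 69, 70, 71], [48, 50], .kill 41 54 365 0 (.free [50, 100])⟩,
  ⟨[48, 50, 44, 52, 62, 54, 64, 55, 67, 63, 65, 66, 68, 69, 70, 71], [48, 50], .kill 38 52 366 0 (.free [50, 100])⟩,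
  ⟨[48, 50, 44, 52, 62, 54, 64, 55, 67, 60, 63, 65, 66, 68, 69, 70, 71], [48, 50], .zero 66 60 367⟩,
  ⟨[48, 50, 44, 45, 59, 52, 62, 54, 64, 55, 67, 60, 63, 65, 66, 68, 69, 70, 71], [48, 50], .zero 55 45 368⟩,
  ⟨[48, 50, 44, 49, 61, 45, 59, 52, 62, 54, 64, 55, 67, 60, 63, 65, 66, 68, 69, 70, 71], [48, 50], .kill 36 49 369 0 (.free [48, 100])⟩,
  ⟨[48, 50, 44, 53, 49, 61, 45, 59, 52, 62, 54, 64, 55, 67, 60, 63, 65, 66, 68, 69, 70, 71], [48, 50], .kill 40 53 370 0 (.tr [50, 100] [48, 101])⟩,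
  ⟨[48, 50, 44, 51, 53, 49, 61, 45, 59, 52, 62, 54, 64, 55, 67, 60, 63, 65, 66, 68, 69, 70, 71], [48, 50], .kill 37 51 371 0 (.tr [50, 100] [48, 101])⟩,
  ⟨[48, 50, 44, 51, 53, 41, 58, 49, 61, 45, 59, 52, 62, 54, 64, 55, 67, 60, 63, 65, 66, 68, 69, 70, 71], [48, 50], .zero 54 41 372⟩,
  ⟨[48, 50, 44, 51, 53, 38, 57, 41, 58, 49, 61, 45, 59, 52, 62, 54, 64, 55, 67, 60, 63, 65, 66, 68, 69, 70, 71], [48, 50], .zero 52 38 373⟩,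
  ⟨[48, 50, 44, 51, 53, 36, 56, 38, 57, 41, 58, 49, 61, 45, 59, 52, 62, 54, 64, 55, 67, 60, 63, 65, 66, 68, 69, 70, 71], [48, 50], .zero 49 36 374⟩,
  ⟨[48, 50, 44, 51, 53, 36, 56, 38, 57, 41, 58, 49, 61, 45, 59, 52, 62, 54, 64, 55, 67, 60, 63, 65, 66, 68, 69, 70, 71], [], .split 48 339 375⟩,
  ⟨[40, 43], [40, 43], .leaf 0 [[1, -1], [-1, 0], [0, 0], [0, 0], [0, 0], [0, 0]] 1 [.wd [0, 1, 2, 1, 0, 3]]⟩,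
  ⟨[40, 43, 71], [40, 43, 71], .leaf 0 [[-1, -1, -2], [0, 0, 1], [-1, 0, -1], [0, 0, 0], [0, 0, 0], [0, 0, 0]] 3 [.wd [2, 1, 0, 3]]⟩,
  ⟨[40, 43, 71], [40, 43], .split 71 377 378⟩,
  ⟨[40, 43, 69], [40, 43, 69], .leaf 0 [[1, -1, 2], [-1, 0, -1], [0, 0, 1], [0, 0, 0], [0, 0, 0], [0, 0, 0]] 3 [.wd [2, 1, 0, 2, 3]]⟩,
  ⟨[40, 43, 69, 71], [40, 43, 69], .kill 47 71 380 0 (.fix [69, 100])⟩,
  ⟨[40, 43, 69, 71], [40, 43], .split 69 379 381⟩,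
  ⟨[40, 43, 65], [40, 43, 65], .leaf 0 [[-1, 1, 2], [0, -1, -1], [-1, 1, 1], [0, 0, 0], [0, 0, 0], [0, 0, 0]] 3 [.wd [2, 1, 0, 2, 1, 3]]⟩,
  ⟨[40, 43, 65, 69], [40, 43, 65, 69], .leaf 1 [[0, 0, 2, 2], [-2, 0, 0, -2], [-1, 1, 1, 1], [-1, 1, 1, -1], [0, 0, 0, 0], [0, 0, 0, 0]] 3 [.cj 63, .cj 39, .cj 37, .wd [2, 1, 0, 2, 1, 3]]⟩,
  ⟨[40, 43, 65, 69], [40, 43, 65], .split 69 383 384⟩,
  ⟨[40, 43, 65, 69, 71], [40, 43, 65], .kill 51 71 385 0 (.fix [65, 100])⟩,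
  ⟨[40, 43, 65, 69, 71], [40, 43], .split 65 382 386⟩,
  ⟨[40, 43, 60], [40, 43, 60], .leaf 0 [[1, -1, 0], [1, -1, -1], [0, 0, 0], [2, -1, -1], [0, 0, 0], [0, 0, 0]] 3 [.wd [2, 1, 0, 2, 1, 2, 3]]⟩,
  ⟨[40, 43, 60, 71], [40, 43, 60, 71], .leaf 1 [[0, 0, 2, 2], [0, 0, 0, 2], [-1, 1, 1, 1], [1, 1, 1, 3], [0, 0, 0, 0], [0, 0, 0, 0]] 3 [.cj 63, .cj 53, .cj 48, .wd [2, 1, 0, 2, 1, 2, 3]]⟩,
  ⟨[40, 43, 60, 71], [40, 43, 60], .split 71 388 389⟩,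
  ⟨[40, 43, 60, 69, 71], [40, 43, 60], .kill 51 69 390 0 (.fix [60, 100])⟩,
  ⟨[40, 43, 60, 65, 69, 71], [40, 43, 60], .kill 47 65 391 0 (.fix [60, 100])⟩,
  ⟨[40, 43, 60, 65, 69, 71], [40, 43], .split 60 387 392⟩,
  ⟨[40, 43, 51], [40, 43, 51], .leaf 0 [[-1, -2, 1], [0, 0, 0], [-1, -1, 1], [0, 0, 0], [0, 0, 0], [0, 1, -1]] 3 [.wd [1, 2, 1, 2, 3, 2, 1, 0]]⟩,
  ⟨[40, 43, 51, 71], [40, 43, 51], .kill 65 71 394 0 (.fix [51, 100])⟩,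
  ⟨[40, 43, 51, 69, 71], [40, 43, 51], .kill 60 69 395 0 (.fix [51, 100])⟩,
  ⟨[40, 43, 51, 65, 69, 71], [40, 43, 51], .zero 71 65 396⟩,
  ⟨[40, 43, 51, 60, 65, 69, 71], [40, 43, 51], .zero 69 60 397⟩,
  ⟨[40, 43, 51, 60, 65, 69, 71], [40, 43], .split 51 393 398⟩,
  ⟨[40, 43, 51, 60, 65, 69, 70, 71], [40, 43], .kill 66 70 399 0 (.tr [43, 100] [40, 101])⟩,
  ⟨[40, 43, 51, 60, 65, 66, 68, 69, 70, 71], [40, 43], .kill 63 66 400 0 (.rel [40, 100] 70 [43, 66] [40, 68] [])⟩,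
  ⟨[40, 43, 51, 55, 67, 60, 65, 66, 68, 69, 70, 71], [40, 43], .kill 52 55 401 0 (.free [40, 100])⟩,
  ⟨[40, 43, 51, 54, 64, 55, 67, 60, 65, 66, 68, 69, 70, 71], [40, 43], .kill 49 54 402 0 (.free [43, 100])⟩,
  ⟨[40, 43, 51, 45, 59, 54, 64, 55, 67, 60, 65, 66, 68, 69, 70, 71], [40, 43], .kill 38 45 403 0 (.free [43, 100])⟩,
  ⟨[40, 43, 51, 45, 59, 54, 64, 55, 67, 60, 63, 65, 66, 68, 69, 70, 71], [40, 43], .zero 66 63 404⟩,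
  ⟨[40, 43, 51, 45, 59, 52, 62, 54, 64, 55, 67, 60, 63, 65, 66, 68, 69, 70, 71], [40, 43], .zero 55 52 405⟩,
  ⟨[40, 43, 51, 41, 58, 45, 59, 52, 62, 54, 64, 55, 67, 60, 63, 65, 66, 68, 69, 70, 71], [40, 43], .kill 36 41 406 0 (.free [40, 100])⟩,
  ⟨[40, 43, 51, 53, 41, 58, 45, 59, 52, 62, 54, 64, 55, 67, 60, 63, 65, 66, 68, 69, 70, 71], [40, 43], .kill 48 53 407 0 (.tr [43, 100] [40, 101])⟩,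
  ⟨[40, 43, 44, 51, 53, 41, 58, 45, 59, 52, 62, 54, 64, 55, 67, 60, 63, 65, 66, 68, 69, 70, 71], [40, 43], .kill 37 44 408 0 (.tr [43, 100] [40, 101])⟩,
  ⟨[40, 43, 44, 51, 53, 41, 58, 49, 61, 45, 59, 52, 62, 54, 64, 55, 67, 60, 63, 65, 66, 68, 69, 70, 71], [40, 43], .zero 54 49 409⟩,
  ⟨[40, 43, 48, 50, 44, 51, 53, 41, 58, 49, 61, 45, 59, 52, 62, 54, 64, 55, 67, 60, 63, 65, 66, 68, 69, 70, 71], [40, 43], .kill 46 48 410 0 (.rel [40, 100] 53 [43, 48] [40, 50] [])⟩,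
  ⟨[40, 43, 48, 50, 44, 51, 53, 38, 57, 41, 58, 49, 61, 45, 59, 52, 62, 54, 64, 55, 67, 60, 63, 65, 66, 68, 69, 70, 71], [40, 43], .zero 45 38 411⟩,
  ⟨[40, 43, 48, 50, 44, 51, 53, 36, 56, 38, 57, 41, 58, 49, 61, 45, 59, 52, 62, 54, 64, 55, 67, 60, 63, 65, 66, 68, 69, 70, 71], [40, 43], .zero 41 36 412⟩,
  ⟨[40, 43, 48, 50, 44, 51, 53, 36, 56, 38, 57, 41, 58, 49, 61, 45, 59, 52, 62, 54, 64, 55, 67, 60, 63, 65, 66, 68, 69, 70, 71], [], .split 40 376 413⟩,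
  ⟨[37, 42], [37, 42], .leaf 0 [[1, -1], [0, 0], [0, 0], [-1, 0], [0, 0], [0, 0]] 1 [.wd [0, 1, 2, 1, 0, 3, 2]]⟩,
  ⟨[37, 42, 71], [37, 42, 71], .leaf 0 [[1, -1, 0], [0, 0, 1], [0, 0, 0], [-1, 0, 0], [0, 0, 0], [0, 0, 0]] 3 [.wd [2, 1, 0, 3, 2]]⟩,
  ⟨[37, 42, 71], [37, 42], .split 71 415 416⟩,
  ⟨[37, 42, 70], [37, 42, 70], .leaf 0 [[1, -1, 0], [-1, 0, -1], [0, 0, 0], [-1, 0, 0], [0, 0, 0], [0, 0, 0]] 3 [.wd [2, 1, 0, 2, 3, 2]]⟩,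
  ⟨[37, 42, 70, 71], [37, 42, 70], .kill 46 71 418 0 (.fix [70, 100])⟩,
  ⟨[37, 42, 70, 71], [37, 42], .split 70 417 419⟩,
  ⟨[37, 42, 63], [37, 42, 63], .leaf 0 [[1, -1, 0], [-2, 1, 1], [0, 0, 0], [-1, 0, 0], [0, 0, 0], [0, 0, 0]] 3 [.wd [2, 1, 0, 2, 1, 3, 2]]⟩,
  ⟨[37, 42, 63, 70], [37, 42, 63, 70], .leaf 1 [[0, 0, 2, 2], [-2, 0, 0, -2], [-1, 1, 1, 1], [-2, 0, 0, 0], [0, 0, 0, 0], [0, 0, 0, 0]] 3 [.cj 65, .cj 44, .cj 40, .wd [2, 1, 0, 2, 1, 3, 2]]⟩,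
  ⟨[37, 42, 63, 70], [37, 42, 63], .split 70 421 422⟩,
  ⟨[37, 42, 63, 70, 71], [37, 42, 63], .kill 53 71 423 0 (.fix [63, 100])⟩,
  ⟨[37, 42, 63, 70, 71], [37, 42], .split 63 420 424⟩,
  ⟨[37, 42, 60], [37, 42, 60], .leaf 0 [[1, -1, 0], [1, -1, -1], [0, 0, 0], [-1, 0, 0], [0, 0, 0], [0, 0, 0]] 3 [.wd [2, 1, 0, 2, 1, 2, 3, 2]]⟩,
  ⟨[37, 42, 60, 71], [37, 42, 60, 71], .leaf 1 [[0, 0, 2, 2], [0, 0, 0, 2], [-1, 1, 1, 1], [-2, 0, 0, 0], [0, 0, 0, 0], [0, 0, 0, 0]] 3 [.cj 65, .cj 51, .cj 48, .wd [2, 1, 0, 2, 1, 2, 3, 2]]⟩,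
  ⟨[37, 42, 60, 71], [37, 42, 60], .split 71 426 427⟩,
  ⟨[37, 42, 60, 70, 71], [37, 42, 60], .kill 53 70 428 0 (.fix [60, 100])⟩,
  ⟨[37, 42, 60, 63, 70, 71], [37, 42, 60], .kill 46 63 429 0 (.fix [60, 100])⟩,
  ⟨[37, 42, 60, 63, 70, 71], [37, 42], .split 60 425 430⟩,
  ⟨[37, 42, 53], [37, 42, 53], .leaf 1 [[-2, 0, -2], [0, 0, 0], [-2, 1, -1], [-2, 0, 0], [0, 0, 0], [0, 0, 0]] 3 [.wd [1, 2, 1, 2, 3, 2, 1, 0, 2]]⟩,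
  ⟨[37, 42, 53, 71], [37, 42, 53], .kill 63 71 432 0 (.fix [53, 100])⟩,
  ⟨[37, 42, 53, 70, 71], [37, 42, 53], .kill 60 70 433 0 (.fix [53, 100])⟩,
  ⟨[37, 42, 53, 63, 70, 71], [37, 42, 53], .zero 71 63 434⟩,
  ⟨[37, 42, 53, 60, 63, 70, 71], [37, 42, 53], .zero 70 60 435⟩,
  ⟨[37, 42, 53, 60, 63, 70, 71], [37, 42], .split 53 431 436⟩,
  ⟨[37, 42, 53, 60, 63, 69, 70, 71], [37, 42], .kill 66 69 437 0 (.tr [42, 100] [37, 101])⟩,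
  ⟨[37, 42, 53, 60, 63, 66, 68, 69, 70, 71], [37, 42], .kill 65 66 438 0 (.rel [37, 100] 69 [42, 66] [37, 68] [])⟩,
  ⟨[37, 42, 53, 55, 67, 60, 63, 66, 68, 69, 70, 71], [37, 42], .kill 54 55 439 0 (.free [37, 100])⟩,
  ⟨[37, 42, 53, 52, 62, 55, 67, 60, 63, 66, 68, 69, 70, 71], [37, 42], .kill 49 52 440 0 (.free [42, 100])⟩,
  ⟨[37, 42, 53, 45, 59, 52, 62, 55, 67, 60, 63, 66, 68, 69, 70, 71], [37, 42], .kill 41 45 441 0 (.free [42, 100])⟩,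
  ⟨[37, 42, 53, 45, 59, 52, 62, 55, 67, 60, 63, 65, 66, 68, 69, 70, 71], [37, 42], .zero 66 65 442⟩,
  ⟨[37, 42, 53, 45, 59, 52, 62, 54, 64, 55, 67, 60, 63, 65, 66, 68, 69, 70, 71], [37, 42], .zero 55 54 443⟩,
  ⟨[37, 42, 53, 38, 57, 45, 59, 52, 62, 54, 64, 55, 67, 60, 63, 65, 66, 68, 69, 70, 71], [37, 42], .kill 36 38 444 0 (.free [37, 100])⟩,
  ⟨[37, 42, 51, 53, 38, 57, 45, 59, 52, 62, 54, 64, 55, 67, 60, 63, 65, 66, 68, 69, 70, 71], [37, 42], .kill 48 51 445 0 (.tr [42, 100] [37, 101])⟩,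
  ⟨[37, 42, 44, 51, 53, 38, 57, 45, 59, 52, 62, 54, 64, 55, 67, 60, 63, 65, 66, 68, 69, 70, 71], [37, 42], .kill 40 44 446 0 (.tr [42, 100] [37, 101])⟩,
  ⟨[37, 42, 44, 51, 53, 38, 57, 49, 61, 45, 59, 52, 62, 54, 64, 55, 67, 60, 63, 65, 66, 68, 69, 70, 71], [37, 42], .zero 52 49 447⟩,
  ⟨[37, 42, 48, 50, 44, 51, 53, 38, 57, 49, 61, 45, 59, 52, 62, 54, 64, 55, 67, 60, 63, 65, 66, 68, 69, 70, 71], [37, 42], .kill 47 48 448 0 (.rel [37, 100] 51 [42, 48] [37, 50] [])⟩,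
  ⟨[37, 42, 48, 50, 44, 51, 53, 38, 57, 41, 58, 49, 61, 45, 59, 52, 62, 54, 64, 55, 67, 60, 63, 65, 66, 68, 69, 70, 71], [37, 42], .zero 45 41 449⟩,
  ⟨[37, 42, 40, 43, 48, 50, 44, 51, 53, 38, 57, 41, 58, 49, 61, 45, 59, 52, 62, 54, 64, 55, 67, 60, 63, 65, 66, 68, 69, 70, 71], [37, 42], .kill 39 40 450 0 (.rel [37, 100] 44 [40, 42] [37, 43] [])⟩,
  ⟨[37, 42, 40, 43, 48, 50, 44, 51, 53, 36, 56, 38, 57, 41, 58, 49, 61, 45, 59, 52, 62, 54, 64, 55, 67, 60, 63, 65, 66, 68, 69, 70, 71], [37, 42], .zero 38 36 451⟩,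
  ⟨[37, 42, 40, 43, 48, 50, 44, 51, 53, 36, 56, 38, 57, 41, 58, 49, 61, 45, 59, 52, 62, 54, 64, 55, 67, 60, 63, 65, 66, 68, 69, 70, 71], [], .split 37 414 452⟩,
  ⟨[47], [47], .leaf 0 [[0], [1], [0], [0], [0], [0]] 0 [.wd [3, 2, 1, 0, 2, 1]]⟩,
  ⟨[47, 70], [47, 70], .leaf 0 [[0, 0], [0, -1], [-1, -1], [0, 0], [0, 0], [0, 0]] 2 [.cj 45, .wd [3, 2, 1, 0, 2, 1]]⟩,
  ⟨[47, 70], [47], .split 70 454 455⟩,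
  ⟨[47, 66, 68], [47, 66, 68], .leaf 0 [[0, 1, 1], [1, 0, 1], [0, 0, 1], [0, 0, 0], [0, 0, 0], [0, 0, 0]] 3 [.wd [1, 0, 2, 1]]⟩,
  ⟨[47, 66, 68, 70], [47, 66, 68], .kill 40 70 457 0 (.tr [68, 100] [66, 101])⟩,
  ⟨[47, 66, 68, 70], [47], .split 66 456 458⟩,
  ⟨[47, 63], [47, 63], .leaf 0 [[-1, 1], [1, 0], [0, 0], [0, 0], [0, 0], [0, 0]] 2 [.cj 38, .wd [0, 3, 2, 1, 0, 2, 1]]⟩,
  ⟨[47, 63, 70], [47, 63, 70], .leaf 0 [[0, 1, 1], [0, 0, -1], [-1, 0, -1], [0, 0, 0], [0, 0, 0], [0, 0, 0]] 3 [.cj 40, .wd [0, 1, 2, 1], .cj 36, .cj 37, .wd [1]]⟩,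
  ⟨[47, 63, 70], [47, 63], .split 70 460 461⟩,
  ⟨[47, 63, 66, 68, 70], [47, 63], .kill 40 66 462 0 (.free [63, 100])⟩,
  ⟨[47, 63, 66, 68, 70], [47], .split 63 459 463⟩,
  ⟨[47, 55, 67], [47, 55, 67], .leaf 0 [[0, -1, 0], [1, 0, 1], [0, 0, 1], [0, 0, 0], [0, 0, 0], [0, 0, 0]] 3 [.wd [1, 0, 2, 1, 0]]⟩,
  ⟨[47, 55, 67, 63], [47, 55, 67, 63], .leaf 1 [[0, -2, 0, 0], [1, 1, 1, 1], [0, 0, 2, 0], [1, -1, 1, -1], [0, 0, 0, 0], [0, 0, 0, 0]] 3 [.wd [2, 1], .cj 51, .cj 36, .cj 39, .wd [1, 2, 1, 0, 2]]⟩,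
  ⟨[47, 55, 67, 63], [47, 55, 67], .split 63 465 466⟩,
  ⟨[47, 55, 67, 63, 70], [47, 55, 67], .kill 41 70 467 0 (.tr [67, 100] [55, 101])⟩,
  ⟨[47, 55, 67, 63, 66, 68, 70], [47, 55, 67], .kill 56 66 468 0 (.free [55, 100])⟩,
  ⟨[47, 55, 67, 63, 66, 68, 70], [47], .split 55 464 469⟩,
  ⟨[47, 52, 62], [47, 52, 62], .leaf 0 [[-1, -1, 0], [0, 0, 0], [-2, -1, -1], [-1, -1, -1], [0, 0, 0], [0, 0, 0]] 3 [.wd [1, 0, 2, 1, 0, 2, 1, 2]]⟩,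
  ⟨[47, 52, 62, 70], [47, 52, 62, 70], .leaf 1 [[0, 0, 2, 2], [1, 1, 1, 1], [0, 2, 2, 4], [1, 1, 1, 3], [0, 0, 0, 0], [0, 0, 0, 0]] 3 [.cj 46, .cj 45, .cj 39, .wd [1, 0, 2, 1, 0, 2, 1, 2]]⟩,
  ⟨[47, 52, 62, 70], [47, 52, 62], .split 70 471 472⟩,
  ⟨[47, 52, 62, 66, 68, 70], [47, 52, 62], .kill 41 66 473 0 (.free [62, 100])⟩,
  ⟨[47, 52, 62, 63, 66, 68, 70], [47, 52, 62], .kill 36 63 474 0 (.tr [62, 100] [52, 101])⟩,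
  ⟨[47, 52, 62, 55, 67, 63, 66, 68, 70], [47, 52, 62], .kill 40 55 475 0 (.free [52, 100])⟩,
  ⟨[47, 52, 62, 55, 67, 63, 66, 68, 70], [47], .split 52 470 476⟩,
  ⟨[47, 41, 58], [47, 41, 58], .leaf 0 [[-1, -2, 1], [0, -1, 0], [0, 0, 0], [0, 0, 0], [-1, -1, 0], [0, 0, 0]] 3 [.wd [1, 2, 1, 0, 2, 3, 2, 1]]⟩,
  ⟨[47, 41, 58, 63], [47, 41, 58, 63], .leaf 1 [[0, 0, 1, 1], [1, -1, 0, 0], [0, -2, 1, -1], [1, -1, 1, -1], [0, 0, 0, 0], [0, 0, 0, 0]] 3 [.cj 39, .cj 38, .cj 46, .wd [1, 2, 1, 0, 2, 3, 2, 1]]⟩,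
  ⟨[47, 41, 58, 63], [47, 41, 58], .split 63 478 479⟩,
  ⟨[47, 41, 58, 63, 70], [47, 41, 58], .kill 55 70 480 0 (.tr [58, 100] [41, 101])⟩,
  ⟨[47, 41, 58, 63, 66, 68, 70], [47, 41, 58], .kill 62 66 481 0 (.free [41, 100])⟩,
  ⟨[47, 41, 58, 55, 67, 63, 66, 68, 70], [47, 41, 58], .kill 51 55 482 0 (.rel [41, 100] 70 [55, 58] [41, 67] [])⟩,
  ⟨[47, 41, 58, 52, 62, 55, 67, 63, 66, 68, 70], [47, 41, 58], .zero 66 52 483⟩,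
  ⟨[47, 41, 58, 52, 62, 55, 67, 63, 66, 68, 70], [47], .split 41 477 484⟩,
  ⟨[47, 36, 56], [47, 36, 56], .leaf 0 [[0, 0, 0], [1, -1, -1], [0, 0, -1], [0, 0, 0], [0, -1, 0], [0, 0, 0]] 3 [.wd [1, 2, 1, 0, 2, 1, 3, 2, 1]]⟩,
  ⟨[47, 36, 56, 70], [47, 36, 56, 70], .leaf 1 [[-1, 1, 1, -1], [0, 0, 0, -2], [-2, 2, 0, -2], [0, 0, 0, 0], [0, -2, 0, 0], [0, 0, 0, 0]] 3 [.cj 60, .cj 45, .cj 53, .wd [1, 2, 1, 0, 2, 1, 3, 2, 1]]⟩,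
  ⟨[47, 36, 56, 70], [47, 36, 56], .split 70 486 487⟩,
  ⟨[47, 36, 56, 66, 68, 70], [47, 36, 56], .kill 55 66 488 0 (.free [56, 100])⟩,
  ⟨[47, 36, 56, 63, 66, 68, 70], [47, 36, 56], .kill 52 63 489 0 (.tr [56, 100] [36, 101])⟩,
  ⟨[47, 36, 56, 52, 62, 63, 66, 68, 70], [47, 36, 56], .kill 51 52 490 0 (.rel [36, 100] 63 [52, 56] [36, 62] [])⟩,
  ⟨[47, 36, 56, 52, 62, 55, 67, 63, 66, 68, 70], [47, 36, 56], .zero 66 55 491⟩,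
  ⟨[47, 36, 56, 41, 58, 52, 62, 55, 67, 63, 66, 68, 70], [47, 36, 56], .kill 40 41 492 0 (.free [36, 100])⟩,
  ⟨[47, 36, 56, 41, 58, 52, 62, 55, 67, 63, 66, 68, 70], [47], .split 36 485 493⟩,
  ⟨[47, 51], [47, 51], .leaf 0 [[1, -1], [1, 0], [0, 0], [0, 0], [0, 0], [0, 0]] 2 [.cj 37, .wd [0, 1, 3, 2, 1, 0, 2, 1]]⟩,
  ⟨[47, 51, 70], [47, 51, 70], .leaf 0 [[-1, -1, -2], [0, 0, -1], [-1, 0, -1], [0, 0, 0], [0, 0, 0], [0, 0, 0]] 3 [.cj 37, .wd [1, 2, 0, 1], .cj 41, .cj 37, .wd [1, 2, 1, 2]]⟩,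
  ⟨[47, 51, 70], [47, 51], .split 70 495 496⟩,
  ⟨[47, 51, 66, 68], [47, 51, 66, 68], .leaf 1 [[0, 0, 2, 2], [1, 1, 1, 1], [0, 0, 0, 2], [1, -1, -1, 1], [0, 0, 0, 0], [0, 0, 0, 0]] 3 [.wd [2, 1, 0], .cj 51, .cj 36, .cj 39, .wd [1, 2, 1, 0, 2]]⟩,
  ⟨[47, 51, 66, 68, 70], [47, 51, 66, 68], .kill 40 70 498 0 (.tr [68, 100] [66, 101])⟩,
  ⟨[47, 51, 66, 68, 70], [47, 51], .split 66 497 499⟩,
  ⟨[47, 51, 63], [47, 51, 63], .leaf 0 [[-1, -1, 0], [0, 0, 0], [-2, -1, -1], [-1, -1, -1], [0, 0, 0], [0, 0, 0]] 3 [.cj 37, .wd [0, 1], .cj 36, .cj 37, .wd [1, 2, 1, 0, 2, 1, 2]]⟩,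
  ⟨[47, 51, 63, 70], [47, 51, 63, 70], .leaf 1 [[0, 0, 2, 2], [1, 1, 1, 1], [0, 2, 2, 4], [1, 1, 1, 3], [0, 0, 0, 0], [0, 0, 0, 0]] 3 [.cj 46, .cj 37, .cj 36, .wd [1, 0], .cj 45, .cj 37, .cj 39, .wd [1, 0, 2, 1, 0, 2, 1, 2]]⟩,
  ⟨[47, 51, 63, 70], [47, 51, 63], .split 70 501 502⟩,
  ⟨[47, 51, 63, 66, 68, 70], [47, 51, 63], .kill 40 66 503 0 (.free [63, 100])⟩,
  ⟨[47, 51, 63, 66, 68, 70], [47, 51], .split 63 500 504⟩,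
  ⟨[47, 51, 55, 67, 63, 66, 68, 70], [47, 51], .kill 41 55 505 0 (.free [51, 100])⟩,
  ⟨[47, 51, 52, 62, 55, 67, 63, 66, 68, 70], [47, 51], .kill 36 52 506 0 (.free [51, 100])⟩,
  ⟨[47, 51, 41, 58, 52, 62, 55, 67, 63, 66, 68, 70], [47, 51], .zero 55 41 507⟩,
  ⟨[47, 51, 36, 56, 41, 58, 52, 62, 55, 67, 63, 66, 68, 70], [47, 51], .zero 52 36 508⟩,
  ⟨[47, 51, 36, 56, 41, 58, 52, 62, 55, 67, 63, 66, 68, 70], [47], .split 51 494 509⟩,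
  ⟨[47, 40, 43], [47, 40, 43], .leaf 0 [[-1, 0, -1], [1, 0, 0], [0, 0, 0], [0, 0, 0], [0, 0, 0], [-1, -1, 0]] 3 [.wd [1, 2, 1, 0, 2, 3, 2, 1, 0]]⟩,
  ⟨[47, 40, 43, 51], [47, 40, 43, 51], .leaf 1 [[0, -2, 0, -2], [1, -1, 0, 0], [0, -2, 1, -1], [1, -1, 1, -1], [0, 0, 0, 0], [0, 0, 0, 0]] 3 [.cj 39, .cj 37, .cj 46, .wd [1, 2, 1, 0, 2, 3, 2, 1, 0]]⟩,
  ⟨[47, 40, 43, 51], [47, 40, 43], .split 51 511 512⟩,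
  ⟨[47, 40, 43, 51, 70], [47, 40, 43], .kill 66 70 513 0 (.tr [43, 100] [40, 101])⟩,
  ⟨[47, 40, 43, 51, 66, 68, 70], [47, 40, 43], .kill 63 66 514 0 (.rel [40, 100] 70 [43, 66] [40, 68] [])⟩,
  ⟨[47, 40, 43, 51, 55, 67, 66, 68, 70], [47, 40, 43], .kill 52 55 515 0 (.free [40, 100])⟩,
  ⟨[47, 40, 43, 51, 55, 67, 63, 66, 68, 70], [47, 40, 43], .zero 66 63 516⟩,
  ⟨[47, 40, 43, 51, 52, 62, 55, 67, 63, 66, 68, 70], [47, 40, 43], .zero 55 52 517⟩,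
  ⟨[47, 40, 43, 51, 41, 58, 52, 62, 55, 67, 63, 66, 68, 70], [47, 40, 43], .kill 36 41 518 0 (.free [40, 100])⟩,
  ⟨[47, 40, 43, 51, 36, 56, 41, 58, 52, 62, 55, 67, 63, 66, 68, 70], [47, 40, 43], .zero 41 36 519⟩,
  ⟨[47, 40, 43, 51, 36, 56, 41, 58, 52, 62, 55, 67, 63, 66, 68, 70], [47], .split 40 510 520⟩,
  ⟨[47, 40, 43, 51, 36, 56, 41, 58, 52, 62, 55, 67, 63, 66, 68, 70, 71], [47], .kill 69 71 521 0 (.fix [47, 100])⟩,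
  ⟨[47, 40, 43, 51, 36, 56, 41, 58, 52, 62, 55, 67, 63, 66, 68, 69, 70, 71], [47], .zero 71 69 522⟩,
  ⟨[47, 40, 43, 51, 36, 56, 41, 58, 52, 62, 55, 67, 63, 65, 66, 68, 69, 70, 71], [47], .kill 60 65 523 0 (.fix [47, 100])⟩]

/-- Some nodes. -/
def nodes3 : List Node := [
  ⟨[47, 40, 43, 51, 36, 56, 41, 58, 52, 62, 55, 67, 60, 63, 65, 66, 68, 69, 70, 71], [47], .zero 65 60 524⟩,
  ⟨[47, 40, 43, 51, 36, 56, 41, 58, 52, 62, 54, 64, 55, 67, 60, 63, 65, 66, 68, 69, 70, 71], [47], .kill 45 54 525 0 (.free [47, 100])⟩,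
  ⟨[47, 40, 43, 51, 36, 56, 41, 58, 45, 59, 52, 62, 54, 64, 55, 67, 60, 63, 65, 66, 68, 69, 70, 71], [47], .zero 54 45 526⟩,
  ⟨[47, 40, 43, 51, 36, 56, 41, 58, 49, 61, 45, 59, 52, 62, 54, 64, 55, 67, 60, 63, 65, 66, 68, 69, 70, 71], [47], .kill 38 49 527 0 (.free [47, 100])⟩,
  ⟨[47, 40, 43, 51, 53, 36, 56, 41, 58, 49, 61, 45, 59, 52, 62, 54, 64, 55, 67, 60, 63, 65, 66, 68, 69, 70, 71], [47], .kill 44 53 528 0 (.fix [47, 100])⟩,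
  ⟨[47, 40, 43, 51, 53, 36, 56, 38, 57, 41, 58, 49, 61, 45, 59, 52, 62, 54, 64, 55, 67, 60, 63, 65, 66, 68, 69, 70, 71], [47], .zero 49 38 529⟩,
  ⟨[47, 40, 43, 44, 51, 53, 36, 56, 38, 57, 41, 58, 49, 61, 45, 59, 52, 62, 54, 64, 55, 67, 60, 63, 65, 66, 68, 69, 70, 71], [47], .zero 53 44 530⟩,
  ⟨[47, 40, 43, 48, 50, 44, 51, 53, 36, 56, 38, 57, 41, 58, 49, 61, 45, 59, 52, 62, 54, 64, 55, 67, 60, 63, 65, 66, 68, 69, 70, 71], [47], .kill 37 48 531 0 (.free [47, 100])⟩,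
  ⟨[47, 37, 42, 40, 43, 48, 50, 44, 51, 53, 36, 56, 38, 57, 41, 58, 49, 61, 45, 59, 52, 62, 54, 64, 55, 67, 60, 63, 65, 66, 68, 69, 70, 71], [47], .zero 48 37 532⟩,
  ⟨[47, 37, 42, 40, 43, 48, 50, 44, 51, 53, 36, 56, 38, 57, 41, 58, 49, 61, 45, 59, 52, 62, 54, 64, 55, 67, 60, 63, 65, 66, 68, 69, 70, 71], [], .split 47 453 533⟩,
  ⟨[39], [39], .leaf 0 [[0], [-1], [0], [0], [0], [0]] 0 [.wd [3, 2, 1, 0, 2, 1, 3]]⟩,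
  ⟨[39, 71], [39, 71], .leaf 0 [[0, 0], [0, 1], [-1, -1], [0, 0], [0, 0], [0, 0]] 2 [.cj 52, .wd [3, 2, 1, 0, 2, 1, 3]]⟩,
  ⟨[39, 71], [39], .split 71 535 536⟩,
  ⟨[39, 66, 68], [39, 66, 68], .leaf 0 [[0, 1, 1], [-1, 0, -1], [0, 0, 1], [0, 0, 0], [0, 0, 0], [0, 0, 0]] 3 [.wd [1, 0, 2, 1, 3]]⟩,
  ⟨[39, 66, 68, 71], [39, 66, 68], .kill 48 71 538 0 (.tr [68, 100] [66, 101])⟩,
  ⟨[39, 66, 68, 71], [39], .split 66 537 539⟩,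
  ⟨[39, 60], [39, 60], .leaf 0 [[-1, 1], [-1, 0], [0, 0], [0, 0], [0, 0], [0, 0]] 2 [.cj 38, .wd [0, 3, 2, 1, 0, 2, 1, 3]]⟩,
  ⟨[39, 60, 71], [39, 60, 71], .leaf 0 [[0, 1, 1], [0, 0, 1], [-1, 0, -1], [0, 0, 0], [0, 0, 0], [0, 0, 0]] 3 [.cj 48, .wd [0, 1, 2, 3, 1], .cj 36, .cj 37, .wd [1]]⟩,
  ⟨[39, 60, 71], [39, 60], .split 71 541 542⟩,
  ⟨[39, 60, 66, 68, 71], [39, 60], .kill 48 66 543 0 (.free [60, 100])⟩,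
  ⟨[39, 60, 66, 68, 71], [39], .split 60 540 544⟩,
  ⟨[39, 55, 67], [39, 55, 67], .leaf 0 [[0, -1, 0], [-1, 0, -1], [0, 0, 1], [0, 0, 0], [0, 0, 0], [0, 0, 0]] 3 [.wd [1, 0, 2, 1, 0, 3]]⟩,
  ⟨[39, 55, 67, 60], [39, 55, 67, 60], .leaf 1 [[0, -2, 0, 0], [0, -2, 0, -2], [0, 0, 2, 0], [1, -1, 1, -1], [0, 0, 0, 0], [0, 0, 0, 0]] 3 [.wd [3, 2, 1], .cj 44, .cj 36, .cj 46, .wd [1, 2, 1, 0, 2, 3, 2]]⟩,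
  ⟨[39, 55, 67, 60], [39, 55, 67], .split 60 546 547⟩,
  ⟨[39, 55, 67, 60, 71], [39, 55, 67], .kill 49 71 548 0 (.tr [67, 100] [55, 101])⟩,
  ⟨[39, 55, 67, 60, 66, 68, 71], [39, 55, 67], .kill 56 66 549 0 (.free [55, 100])⟩,
  ⟨[39, 55, 67, 60, 66, 68, 71], [39], .split 55 545 550⟩,
  ⟨[39, 45, 59], [39, 45, 59], .leaf 1 [[0, 0, 2], [0, 0, 0], [0, 2, 2], [1, 1, 1], [0, 0, 0], [0, 0, 0]] 3 [.wd [1, 0, 2, 1, 0, 2, 1, 2, 3]]⟩,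
  ⟨[39, 45, 59, 71], [39, 45, 59, 71], .leaf 1 [[0, 0, 2, 2], [0, 0, 0, 2], [0, 2, 2, 4], [1, 1, 1, 3], [0, 0, 0, 0], [0, 0, 0, 0]] 3 [.cj 69, .cj 52, .cj 47, .wd [1, 0, 2, 1, 0, 2, 1, 2, 3]]⟩,
  ⟨[39, 45, 59, 71], [39, 45, 59], .split 71 552 553⟩,
  ⟨[39, 45, 59, 66, 68, 71], [39, 45, 59], .kill 49 66 554 0 (.free [59, 100])⟩,
  ⟨[39, 45, 59, 60, 66, 68, 71], [39, 45, 59], .kill 36 60 555 0 (.tr [59, 100] [45, 101])⟩,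
  ⟨[39, 45, 59, 55, 67, 60, 66, 68, 71], [39, 45, 59], .kill 48 55 556 0 (.free [45, 100])⟩,
  ⟨[39, 45, 59, 55, 67, 60, 66, 68, 71], [39], .split 45 551 557⟩,
  ⟨[39, 49, 61], [39, 49, 61], .leaf 0 [[-1, -2, 1], [0, 1, 0], [0, 0, 0], [0, 0, 0], [-1, -1, 0], [0, 0, 0]] 3 [.wd [1, 2, 1, 0, 3, 2, 1]]⟩,
  ⟨[39, 49, 61, 60], [39, 49, 61, 60], .leaf 1 [[0, 0, 1, 1], [0, 0, 1, -1], [0, -2, 1, -1], [1, -1, 1, -1], [0, 0, 0, 0], [0, 0, 0, 0]] 3 [.wd [3], .cj 39, .cj 38, .cj 46, .wd [1, 2, 1, 0, 2, 3, 2, 1]]⟩,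
  ⟨[39, 49, 61, 60], [39, 49, 61], .split 60 559 560⟩,
  ⟨[39, 49, 61, 60, 71], [39, 49, 61], .kill 55 71 561 0 (.tr [61, 100] [49, 101])⟩,
  ⟨[39, 49, 61, 60, 66, 68, 71], [39, 49, 61], .kill 59 66 562 0 (.free [49, 100])⟩,
  ⟨[39, 49, 61, 55, 67, 60, 66, 68, 71], [39, 49, 61], .kill 44 55 563 0 (.rel [49, 100] 71 [55, 61] [49, 67] [])⟩,
  ⟨[39, 49, 61, 45, 59, 55, 67, 60, 66, 68, 71], [39, 49, 61], .zero 66 45 564⟩,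
  ⟨[39, 49, 61, 45, 59, 55, 67, 60, 66, 68, 71], [39], .split 49 558 565⟩,
  ⟨[39, 36, 56], [39, 36, 56], .leaf 0 [[0, 0, 0], [-1, 1, 1], [0, 0, -1], [0, 0, 0], [0, -1, 0], [0, 0, 0]] 3 [.wd [1, 2, 1, 0, 2, 1, 2, 3, 2, 1]]⟩,
  ⟨[39, 36, 56, 71], [39, 36, 56, 71], .leaf 1 [[-1, 1, 1, -1], [0, 0, 0, 2], [-2, 2, 0, -2], [0, 0, 0, 0], [0, -2, 0, 0], [0, 0, 0, 0]] 3 [.cj 63, .cj 52, .cj 53, .wd [1, 2, 1, 0, 2, 1, 2, 3, 2, 1]]⟩,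
  ⟨[39, 36, 56, 71], [39, 36, 56], .split 71 567 568⟩,
  ⟨[39, 36, 56, 66, 68, 71], [39, 36, 56], .kill 55 66 569 0 (.free [56, 100])⟩,
  ⟨[39, 36, 56, 60, 66, 68, 71], [39, 36, 56], .kill 45 60 570 0 (.tr [56, 100] [36, 101])⟩,
  ⟨[39, 36, 56, 45, 59, 60, 66, 68, 71], [39, 36, 56], .kill 44 45 571 0 (.rel [36, 100] 60 [45, 56] [36, 59] [])⟩,
  ⟨[39, 36, 56, 45, 59, 55, 67, 60, 66, 68, 71], [39, 36, 56], .zero 66 55 572⟩,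
  ⟨[39, 36, 56, 49, 61, 45, 59, 55, 67, 60, 66, 68, 71], [39, 36, 56], .kill 48 49 573 0 (.free [36, 100])⟩,
  ⟨[39, 36, 56, 49, 61, 45, 59, 55, 67, 60, 66, 68, 71], [39], .split 36 566 574⟩,
  ⟨[39, 44], [39, 44], .leaf 0 [[1, -1], [-1, 0], [0, 0], [0, 0], [0, 0], [0, 0]] 2 [.cj 37, .wd [0, 1, 3, 2, 1, 0, 2, 1, 3]]⟩,
  ⟨[39, 44, 71], [39, 44, 71], .leaf 0 [[-1, -1, -2], [0, 0, 1], [-1, 0, -1], [0, 0, 0], [0, 0, 0], [0, 0, 0]] 3 [.cj 37, .wd [1, 2, 3, 0, 1], .cj 41, .cj 37, .wd [1, 2, 1, 2]]⟩,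
  ⟨[39, 44, 71], [39, 44], .split 71 576 577⟩,
  ⟨[39, 44, 66, 68], [39, 44, 66, 68], .leaf 1 [[0, 0, 2, 2], [0, -2, -2, 0], [0, 0, 0, 2], [1, -1, -1, 1], [0, 0, 0, 0], [0, 0, 0, 0]] 3 [.wd [3, 2, 1, 0], .cj 44, .cj 36, .cj 46, .wd [1, 2, 1, 0, 2, 3, 2]]⟩,
  ⟨[39, 44, 66, 68, 71], [39, 44, 66, 68], .kill 48 71 579 0 (.tr [68, 100] [66, 101])⟩,
  ⟨[39, 44, 66, 68, 71], [39, 44], .split 66 578 580⟩,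
  ⟨[39, 44, 60], [39, 44, 60], .leaf 1 [[0, 0, 2], [0, 0, 0], [0, 2, 2], [1, 1, 1], [0, 0, 0], [0, 0, 0]] 3 [.cj 37, .wd [0, 1], .cj 36, .cj 37, .wd [1, 2, 1, 0, 2, 1, 2, 3]]⟩,
  ⟨[39, 44, 60, 71], [39, 44, 60, 71], .leaf 1 [[0, 0, 2, 2], [0, 0, 0, 2], [0, 2, 2, 4], [1, 1, 1, 3], [0, 0, 0, 0], [0, 0, 0, 0]] 3 [.cj 37, .cj 53, .cj 36, .wd [1, 0], .cj 52, .cj 37, .cj 47, .wd [1, 0, 2, 1, 0, 2, 1, 2, 3]]⟩,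
  ⟨[39, 44, 60, 71], [39, 44, 60], .split 71 582 583⟩,
  ⟨[39, 44, 60, 66, 68, 71], [39, 44, 60], .kill 48 66 584 0 (.free [60, 100])⟩,
  ⟨[39, 44, 60, 66, 68, 71], [39, 44], .split 60 581 585⟩,
  ⟨[39, 44, 55, 67, 60, 66, 68, 71], [39, 44], .kill 49 55 586 0 (.free [44, 100])⟩,
  ⟨[39, 44, 45, 59, 55, 67, 60, 66, 68, 71], [39, 44], .kill 36 45 587 0 (.free [44, 100])⟩,
  ⟨[39, 44, 49, 61, 45, 59, 55, 67, 60, 66, 68, 71], [39, 44], .zero 55 49 588⟩,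
  ⟨[39, 44, 36, 56, 49, 61, 45, 59, 55, 67, 60, 66, 68, 71], [39, 44], .zero 45 36 589⟩,
  ⟨[39, 44, 36, 56, 49, 61, 45, 59, 55, 67, 60, 66, 68, 71], [39], .split 44 575 590⟩,
  ⟨[39, 48, 50], [39, 48, 50], .leaf 0 [[-1, 0, -1], [-1, 0, 0], [0, 0, 0], [0, 0, 0], [0, 0, 0], [-1, -1, 0]] 3 [.wd [1, 2, 1, 0, 3, 2, 1, 0]]⟩,
  ⟨[39, 48, 50, 44], [39, 48, 50, 44], .leaf 1 [[0, -2, 0, -2], [0, 0, 1, -1], [0, -2, 1, -1], [1, -1, 1, -1], [0, 0, 0, 0], [0, 0, 0, 0]] 3 [.wd [3], .cj 39, .cj 37, .cj 46, .wd [1, 2, 1, 0, 2, 3, 2, 1, 0]]⟩,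
  ⟨[39, 48, 50, 44], [39, 48, 50], .split 44 592 593⟩,
  ⟨[39, 48, 50, 44, 71], [39, 48, 50], .kill 66 71 594 0 (.tr [50, 100] [48, 101])⟩,
  ⟨[39, 48, 50, 44, 66, 68, 71], [39, 48, 50], .kill 60 66 595 0 (.rel [48, 100] 71 [50, 66] [48, 68] [])⟩,
  ⟨[39, 48, 50, 44, 55, 67, 66, 68, 71], [39, 48, 50], .kill 45 55 596 0 (.free [48, 100])⟩,
  ⟨[39, 48, 50, 44, 55, 67, 60, 66, 68, 71], [39, 48, 50], .zero 66 60 597⟩,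
  ⟨[39, 48, 50, 44, 45, 59, 55, 67, 60, 66, 68, 71], [39, 48, 50], .zero 55 45 598⟩,
  ⟨[39, 48, 50, 44, 49, 61, 45, 59, 55, 67, 60, 66, 68, 71], [39, 48, 50], .kill 36 49 599 0 (.free [48, 100])⟩,
  ⟨[39, 48, 50, 44, 36, 56, 49, 61, 45, 59, 55, 67, 60, 66, 68, 71], [39, 48, 50], .zero 49 36 600⟩,
  ⟨[39, 48, 50, 44, 36, 56, 49, 61, 45, 59, 55, 67, 60, 66, 68, 71], [39], .split 48 591 601⟩,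
  ⟨[39, 48, 50, 44, 36, 56, 49, 61, 45, 59, 55, 67, 60, 66, 68, 70, 71], [39], .kill 69 70 602 0 (.fix [39, 100])⟩,
  ⟨[39, 48, 50, 44, 36, 56, 49, 61, 45, 59, 55, 67, 60, 66, 68, 69, 70, 71], [39], .zero 70 69 603⟩,
  ⟨[39, 48, 50, 44, 36, 56, 49, 61, 45, 59, 55, 67, 60, 65, 66, 68, 69, 70, 71], [39], .kill 63 65 604 0 (.fix [39, 100])⟩,
  ⟨[39, 48, 50, 44, 36, 56, 49, 61, 45, 59, 55, 67, 60, 63, 65, 66, 68, 69, 70, 71], [39], .zero 65 63 605⟩,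
  ⟨[39, 48, 50, 44, 36, 56, 49, 61, 45, 59, 54, 64, 55, 67, 60, 63, 65, 66, 68, 69, 70, 71], [39], .kill 52 54 606 0 (.free [39, 100])⟩,
  ⟨[39, 48, 50, 44, 36, 56, 49, 61, 45, 59, 52, 62, 54, 64, 55, 67, 60, 63, 65, 66, 68, 69, 70, 71], [39], .zero 54 52 607⟩,
  ⟨[39, 48, 50, 44, 36, 56, 41, 58, 49, 61, 45, 59, 52, 62, 54, 64, 55, 67, 60, 63, 65, 66, 68, 69, 70, 71], [39], .kill 38 41 608 0 (.free [39, 100])⟩,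
  ⟨[39, 48, 50, 44, 53, 36, 56, 41, 58, 49, 61, 45, 59, 52, 62, 54, 64, 55, 67, 60, 63, 65, 66, 68, 69, 70, 71], [39], .kill 51 53 609 0 (.fix [39, 100])⟩,
  ⟨[39, 48, 50, 44, 53, 36, 56, 38, 57, 41, 58, 49, 61, 45, 59, 52, 62, 54, 64, 55, 67, 60, 63, 65, 66, 68, 69, 70, 71], [39], .zero 41 38 610⟩,
  ⟨[39, 48, 50, 44, 51, 53, 36, 56, 38, 57, 41, 58, 49, 61, 45, 59, 52, 62, 54, 64, 55, 67, 60, 63, 65, 66, 68, 69, 70, 71], [39], .zero 53 51 611⟩,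
  ⟨[39, 40, 43, 48, 50, 44, 51, 53, 36, 56, 38, 57, 41, 58, 49, 61, 45, 59, 52, 62, 54, 64, 55, 67, 60, 63, 65, 66, 68, 69, 70, 71], [39], .kill 37 40 612 0 (.free [39, 100])⟩,
  ⟨[39, 47, 40, 43, 48, 50, 44, 51, 53, 36, 56, 38, 57, 41, 58, 49, 61, 45, 59, 52, 62, 54, 64, 55, 67, 60, 63, 65, 66, 68, 69, 70, 71], [39], .kill 46 47 613 0 (.fix [39, 100])⟩,
  ⟨[39, 47, 37, 42, 40, 43, 48, 50, 44, 51, 53, 36, 56, 38, 57, 41, 58, 49, 61, 45, 59, 52, 62, 54, 64, 55, 67, 60, 63, 65, 66, 68, 69, 70, 71], [39], .zero 40 37 614⟩,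
  ⟨[39, 47, 37, 42, 40, 43, 48, 50, 44, 51, 53, 36, 56, 38, 57, 41, 58, 49, 61, 45, 59, 52, 62, 54, 64, 55, 67, 60, 63, 65, 66, 68, 69, 70, 71], [], .split 39 534 615⟩,
  ⟨[46], [46], .leaf 0 [[0], [0], [0], [-1], [0], [0]] 0 [.wd [3, 2, 1, 0, 2, 1, 2]]⟩,
  ⟨[46, 69], [46, 69], .leaf 0 [[0, 0], [0, 0], [-1, 1], [-1, 0], [0, 0], [0, 0]] 2 [.cj 45, .wd [3, 2, 1, 0, 2, 1, 2]]⟩,
  ⟨[46, 69], [46], .split 69 617 618⟩,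
  ⟨[46, 66, 68], [46, 66, 68], .leaf 0 [[0, 1, 1], [0, 0, 0], [0, 0, 1], [-1, 0, 0], [0, 0, 0], [0, 0, 0]] 3 [.wd [1, 0, 2, 1, 2]]⟩,
  ⟨[46, 66, 68, 69], [46, 66, 68], .kill 37 69 620 0 (.tr [68, 100] [66, 101])⟩,
  ⟨[46, 66, 68, 69], [46], .split 66 619 621⟩,
  ⟨[46, 65], [46, 65], .leaf 0 [[1, 1], [0, 0], [0, 0], [-1, 0], [0, 0], [0, 0]] 2 [.cj 41, .wd [0, 3, 2, 1, 0, 2, 1, 2]]⟩,
  ⟨[46, 65, 69], [46, 65, 69], .leaf 0 [[0, 1, 1], [0, 0, 0], [-1, 0, 1], [-1, 0, 0], [0, 0, 0], [0, 0, 0]] 3 [.cj 37, .wd [1, 2, 0, 1], .cj 41, .cj 37, .wd [1, 2, 1, 0]]⟩,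
  ⟨[46, 65, 69], [46, 65], .split 69 623 624⟩,
  ⟨[46, 65, 66, 68, 69], [46, 65], .kill 37 66 625 0 (.free [65, 100])⟩,
  ⟨[46, 65, 66, 68, 69], [46], .split 65 622 626⟩,
  ⟨[46, 55, 67], [46, 55, 67], .leaf 0 [[0, -1, 0], [0, 0, 0], [0, 0, 1], [-1, 0, 0], [0, 0, 0], [0, 0, 0]] 3 [.wd [1, 0, 2, 1, 0, 2]]⟩,
  ⟨[46, 55, 67, 65], [46, 55, 67, 65], .leaf 1 [[0, -2, 0, 0], [1, 1, 1, 1], [0, 0, 2, 0], [0, 2, 2, 2], [0, 0, 0, 0], [0, 0, 0, 0]] 3 [.wd [2, 1], .cj 46, .cj 45, .cj 39, .wd [1, 0, 2, 1, 0, 2, 1, 2]]⟩,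
  ⟨[46, 55, 67, 65], [46, 55, 67], .split 65 628 629⟩,
  ⟨[46, 55, 67, 65, 69], [46, 55, 67], .kill 38 69 630 0 (.tr [67, 100] [55, 101])⟩,
  ⟨[46, 55, 67, 65, 66, 68, 69], [46, 55, 67], .kill 56 66 631 0 (.free [55, 100])⟩,
  ⟨[46, 55, 67, 65, 66, 68, 69], [46], .split 55 627 632⟩,
  ⟨[46, 54, 64], [46, 54, 64], .leaf 0 [[-1, -1, 0], [0, 0, 0], [-2, -1, -1], [-1, 0, 0], [0, 0, 0], [0, 0, 0]] 3 [.wd [1, 0, 2, 1, 0, 2, 1]]⟩,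
  ⟨[46, 54, 64, 69], [46, 54, 64, 69], .leaf 1 [[0, 0, 2, 2], [1, 1, 1, 1], [0, 2, 2, 4], [0, 2, 2, 2], [0, 0, 0, 0], [0, 0, 0, 0]] 3 [.wd [2], .cj 46, .cj 45, .cj 39, .wd [1, 0, 2, 1, 0, 2, 1, 2]]⟩,
  ⟨[46, 54, 64, 69], [46, 54, 64], .split 69 634 635⟩,
  ⟨[46, 54, 64, 66, 68, 69], [46, 54, 64], .kill 38 66 636 0 (.free [64, 100])⟩,
  ⟨[46, 54, 64, 65, 66, 68, 69], [46, 54, 64], .kill 36 65 637 0 (.tr [64, 100] [54, 101])⟩,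
  ⟨[46, 54, 64, 55, 67, 65, 66, 68, 69], [46, 54, 64], .kill 37 55 638 0 (.free [54, 100])⟩,
  ⟨[46, 54, 64, 55, 67, 65, 66, 68, 69], [46], .split 54 633 639⟩,
  ⟨[46, 38, 57], [46, 38, 57], .leaf 0 [[-1, 0, 1], [0, 0, 0], [0, 0, 0], [-1, 0, 0], [-1, 1, 0], [0, 0, 0]] 3 [.wd [1, 2, 1, 0, 2, 3, 2, 1, 2]]⟩,
  ⟨[46, 38, 57, 65], [46, 38, 57, 65], .leaf 1 [[0, 0, 1, 1], [1, -1, 0, 0], [0, -2, 1, -1], [0, -2, 0, 0], [0, 0, 0, 0], [0, 0, 0, 0]] 3 [.cj 60, .cj 41, .cj 47, .wd [1, 2, 1, 0, 2, 3, 2, 1, 2]]⟩,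
  ⟨[46, 38, 57, 65], [46, 38, 57], .split 65 641 642⟩,
  ⟨[46, 38, 57, 65, 69], [46, 38, 57], .kill 55 69 643 0 (.tr [57, 100] [38, 101])⟩,
  ⟨[46, 38, 57, 65, 66, 68, 69], [46, 38, 57], .kill 64 66 644 0 (.free [38, 100])⟩,
  ⟨[46, 38, 57, 55, 67, 65, 66, 68, 69], [46, 38, 57], .kill 53 55 645 0 (.rel [38, 100] 69 [55, 57] [38, 67] [])⟩,
  ⟨[46, 38, 57, 54, 64, 55, 67, 65, 66, 68, 69], [46, 38, 57], .zero 66 54 646⟩,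
  ⟨[46, 38, 57, 54, 64, 55, 67, 65, 66, 68, 69], [46], .split 38 640 647⟩,
  ⟨[46, 36, 56], [46, 36, 56], .leaf 0 [[0, 0, 0], [0, 0, 0], [0, 0, -1], [-1, 0, 0], [0, -1, 0], [0, 0, 0]] 3 [.wd [1, 2, 1, 0, 2, 1, 3, 2, 1, 2]]⟩,
  ⟨[46, 36, 56, 69], [46, 36, 56, 69], .leaf 1 [[0, 1, 1, 1], [1, 0, 0, 0], [0, 2, 0, 2], [0, 0, 0, 0], [0, -2, 0, 0], [0, 0, 0, 0]] 3 [.cj 60, .cj 45, .cj 51, .wd [1, 2, 1, 0, 2, 1, 3, 2, 1, 2]]⟩,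
  ⟨[46, 36, 56, 69], [46, 36, 56], .split 69 649 650⟩,
  ⟨[46, 36, 56, 66, 68, 69], [46, 36, 56], .kill 55 66 651 0 (.free [56, 100])⟩,
  ⟨[46, 36, 56, 65, 66, 68, 69], [46, 36, 56], .kill 54 65 652 0 (.tr [56, 100] [36, 101])⟩,
  ⟨[46, 36, 56, 54, 64, 65, 66, 68, 69], [46, 36, 56], .kill 53 54 653 0 (.rel [36, 100] 65 [54, 56] [36, 64] [])⟩,
  ⟨[46, 36, 56, 54, 64, 55, 67, 65, 66, 68, 69], [46, 36, 56], .zero 66 55 654⟩,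
  ⟨[46, 36, 56, 38, 57, 54, 64, 55, 67, 65, 66, 68, 69], [46, 36, 56], .kill 37 38 655 0 (.free [36, 100])⟩,
  ⟨[46, 36, 56, 38, 57, 54, 64, 55, 67, 65, 66, 68, 69], [46], .split 36 648 656⟩,
  ⟨[46, 53], [46, 53], .leaf 0 [[-1, -1], [0, 0], [0, 0], [-1, 0], [0, 0], [0, 0]] 2 [.cj 40, .wd [0, 1, 3, 2, 1, 0, 2, 1, 2]]⟩,
  ⟨[46, 53, 69], [46, 53, 69], .leaf 0 [[-1, -1, 0], [0, 0, 0], [-1, 0, 1], [-1, 0, 0], [0, 0, 0], [0, 0, 0]] 3 [.cj 40, .wd [0, 1, 2, 1], .cj 36, .cj 37, .wd [1, 2, 1, 0, 2, 1, 2]]⟩,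
  ⟨[46, 53, 69], [46, 53], .split 69 658 659⟩,
  ⟨[46, 53, 66, 68], [46, 53, 66, 68], .leaf 1 [[0, 0, 2, 2], [1, 1, 1, 1], [0, 0, 0, 2], [0, 2, 2, 2], [0, 0, 0, 0], [0, 0, 0, 0]] 3 [.wd [2, 1, 0], .cj 46, .cj 45, .cj 39, .wd [1, 0, 2, 1, 0, 2, 1, 2]]⟩,
  ⟨[46, 53, 66, 68, 69], [46, 53, 66, 68], .kill 37 69 661 0 (.tr [68, 100] [66, 101])⟩,
  ⟨[46, 53, 66, 68, 69], [46, 53], .split 66 660 662⟩,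
  ⟨[46, 53, 65], [46, 53, 65], .leaf 0 [[-1, -1, 0], [0, 0, 0], [-2, -1, -1], [-1, 0, 0], [0, 0, 0], [0, 0, 0]] 3 [.cj 40, .wd [0, 1, 2], .cj 36, .cj 37, .wd [1, 2, 1, 0, 2, 1, 2]]⟩,
  ⟨[46, 53, 65, 69], [46, 53, 65, 69], .leaf 1 [[0, 0, 2, 2], [1, 1, 1, 1], [0, 2, 2, 4], [0, 2, 2, 2], [0, 0, 0, 0], [0, 0, 0, 0]] 3 [.cj 47, .cj 37, .cj 36, .wd [2, 1, 0], .cj 45, .cj 40, .cj 39, .wd [1, 0, 2, 1, 0, 2, 1, 2]]⟩,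
  ⟨[46, 53, 65, 69], [46, 53, 65], .split 69 664 665⟩,
  ⟨[46, 53, 65, 66, 68, 69], [46, 53, 65], .kill 37 66 666 0 (.free [65, 100])⟩,
  ⟨[46, 53, 65, 66, 68, 69], [46, 53], .split 65 663 667⟩,
  ⟨[46, 53, 55, 67, 65, 66, 68, 69], [46, 53], .kill 38 55 668 0 (.free [53, 100])⟩,
  ⟨[46, 53, 54, 64, 55, 67, 65, 66, 68, 69], [46, 53], .kill 36 54 669 0 (.free [53, 100])⟩,
  ⟨[46, 53, 38, 57, 54, 64, 55, 67, 65, 66, 68, 69], [46, 53], .zero 55 38 670⟩,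
  ⟨[46, 53, 36, 56, 38, 57, 54, 64, 55, 67, 65, 66, 68, 69], [46, 53], .zero 54 36 671⟩,
  ⟨[46, 53, 36, 56, 38, 57, 54, 64, 55, 67, 65, 66, 68, 69], [46], .split 53 657 672⟩,
  ⟨[46, 37, 42], [46, 37, 42], .leaf 0 [[1, 0, -1], [0, 0, 0], [0, 0, 0], [-1, 0, 0], [0, 0, 0], [1, -1, 0]] 3 [.wd [1, 2, 1, 0, 2, 3, 2, 1, 0, 2]]⟩,
  ⟨[46, 37, 42, 53], [46, 37, 42, 53], .leaf 1 [[0, -2, 0, -2], [1, -1, 0, 0], [0, -2, 1, -1], [0, -2, 0, 0], [0, 0, 0, 0], [0, 0, 0, 0]] 3 [.cj 44, .cj 40, .cj 47, .wd [1, 2, 1, 0, 2, 3, 2, 1, 0, 2]]⟩,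
  ⟨[46, 37, 42, 53], [46, 37, 42], .split 53 674 675⟩,
  ⟨[46, 37, 42, 53, 69], [46, 37, 42], .kill 66 69 676 0 (.tr [42, 100] [37, 101])⟩,
  ⟨[46, 37, 42, 53, 66, 68, 69], [46, 37, 42], .kill 65 66 677 0 (.rel [37, 100] 69 [42, 66] [37, 68] [])⟩,
  ⟨[46, 37, 42, 53, 55, 67, 66, 68, 69], [46, 37, 42], .kill 54 55 678 0 (.free [37, 100])⟩,
  ⟨[46, 37, 42, 53, 55, 67, 65, 66, 68, 69], [46, 37, 42], .zero 66 65 679⟩,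
  ⟨[46, 37, 42, 53, 54, 64, 55, 67, 65, 66, 68, 69], [46, 37, 42], .zero 55 54 680⟩,
  ⟨[46, 37, 42, 53, 38, 57, 54, 64, 55, 67, 65, 66, 68, 69], [46, 37, 42], .kill 36 38 681 0 (.free [37, 100])⟩,
  ⟨[46, 37, 42, 53, 36, 56, 38, 57, 54, 64, 55, 67, 65, 66, 68, 69], [46, 37, 42], .zero 38 36 682⟩,
  ⟨[46, 37, 42, 53, 36, 56, 38, 57, 54, 64, 55, 67, 65, 66, 68, 69], [46], .split 37 673 683⟩,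
  ⟨[46, 37, 42, 53, 36, 56, 38, 57, 54, 64, 55, 67, 65, 66, 68, 69, 71], [46], .kill 70 71 684 0 (.fix [46, 100])⟩,
  ⟨[46, 37, 42, 53, 36, 56, 38, 57, 54, 64, 55, 67, 65, 66, 68, 69, 70, 71], [46], .zero 71 70 685⟩,
  ⟨[46, 37, 42, 53, 36, 56, 38, 57, 54, 64, 55, 67, 63, 65, 66, 68, 69, 70, 71], [46], .kill 60 63 686 0 (.fix [46, 100])⟩,
  ⟨[46, 37, 42, 53, 36, 56, 38, 57, 54, 64, 55, 67, 60, 63, 65, 66, 68, 69, 70, 71], [46], .zero 63 60 687⟩,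
  ⟨[46, 37, 42, 53, 36, 56, 38, 57, 52, 62, 54, 64, 55, 67, 60, 63, 65, 66, 68, 69, 70, 71], [46], .kill 45 52 688 0 (.free [46, 100])⟩,
  ⟨[46, 37, 42, 53, 36, 56, 38, 57, 45, 59, 52, 62, 54, 64, 55, 67, 60, 63, 65, 66, 68, 69, 70, 71], [46], .zero 52 45 689⟩,
  ⟨[46, 37, 42, 53, 36, 56, 38, 57, 49, 61, 45, 59, 52, 62, 54, 64, 55, 67, 60, 63, 65, 66, 68, 69, 70, 71], [46], .kill 41 49 690 0 (.free [46, 100])⟩,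
  ⟨[46, 37, 42, 51, 53, 36, 56, 38, 57, 49, 61, 45, 59, 52, 62, 54, 64, 55, 67, 60, 63, 65, 66, 68, 69, 70, 71], [46], .kill 44 51 691 0 (.fix [46, 100])⟩,
  ⟨[46, 37, 42, 51, 53, 36, 56, 38, 57, 41, 58, 49, 61, 45, 59, 52, 62, 54, 64, 55, 67, 60, 63, 65, 66, 68, 69, 70, 71], [46], .zero 49 41 692⟩,
  ⟨[46, 37, 42, 44, 51, 53, 36, 56, 38, 57, 41, 58, 49, 61, 45, 59, 52, 62, 54, 64, 55, 67, 60, 63, 65, 66, 68, 69, 70, 71], [46], .zero 51 44 693⟩,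
  ⟨[46, 37, 42, 48, 50, 44, 51, 53, 36, 56, 38, 57, 41, 58, 49, 61, 45, 59, 52, 62, 54, 64, 55, 67, 60, 63, 65, 66, 68, 69, 70, 71], [46], .kill 40 48 694 0 (.free [46, 100])⟩,
  ⟨[46, 37, 42, 40, 43, 48, 50, 44, 51, 53, 36, 56, 38, 57, 41, 58, 49, 61, 45, 59, 52, 62, 54, 64, 55, 67, 60, 63, 65, 66, 68, 69, 70, 71], [46], .zero 48 40 695⟩,
  ⟨[46, 47, 37, 42, 40, 43, 48, 50, 44, 51, 53, 36, 56, 38, 57, 41, 58, 49, 61, 45, 59, 52, 62, 54, 64, 55, 67, 60, 63, 65, 66, 68, 69, 70, 71], [46], .kill 39 47 696 0 (.fix [46, 100])⟩,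
  ⟨[46, 39, 47, 37, 42, 40, 43, 48, 50, 44, 51, 53, 36, 56, 38, 57, 41, 58, 49, 61, 45, 59, 52, 62, 54, 64, 55, 67, 60, 63, 65, 66, 68, 69, 70, 71], [46], .zero 47 39 697⟩,
  ⟨[46, 39, 47, 37, 42, 40, 43, 48, 50, 44, 51, 53, 36, 56, 38, 57, 41, 58, 49, 61, 45, 59, 52, 62, 54, 64, 55, 67, 60, 63, 65, 66, 68, 69, 70, 71], [], .split 46 616 698⟩]

/-- All nodes. -/
def tab : List Node := nodes0 ++ nodes1 ++ nodes2 ++ nodes3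

/-- The nodes for the extra element. -/
def tabX : List Node := [
  ⟨[66, 68], [66, 68], .leaf 0 [[1, 1], [0, 0], [0, 1], [0, 0], [0, 0], [0, 0]] 1 [.wd []]⟩,
  ⟨[66, 68, 71], [66, 68, 71], .kill 48 71 0 0 (.tr [68, 100] [66, 101])⟩]

end E6Invol

end Cfsg.Agent.Chev
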