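import Cfsg.Agent.Chev.E6Invol.Tree
import Cfsg.Agent.Chev.E6Invol.RankData
import Cfsg.Agent.Chev.OrthInvol.Rank
import Mathlib.GroupTheory.Sylow

/-!
There are exactly three classes of involutions in `²E₆` in characteristic two.
-/

set_option autoImplicit false
set_option maxRecDepth 100000
set_option maxHeartbeats 1000000

namespace Cfsg.Agent.Chev

open Cfsg.Lie

universe u

namespace E6Invol

open OrthInvol (XL CjS)

local notation "hE" => facts_chevE6

variable {K : Type u} [Field K] [CharP K 2] {φ : K →+* K} {hφ : ∀ t, (φ ^ 2) t = t}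

local notation "TT" => twistE6 K φ hφ

theorem exists_conj_U [Fintype K] {q : ℕ} (hqφ : ∀ (j : ℕ) (t : K), (φ ^ j) t = t ^ q ^ j) (hq2 : 2 ≤ q)
    (hK : Fintype.card K = q ^ 2) {g : GL chevE6.Idx K} (hg : g ∈ (TT).G1) (hsq : g * g = 1) :
    ∃ h ∈ (TT).U1, Cj φ hφ g h := by
  classical
  haveI : Fact (Nat.Prime 2) := ⟨Nat.prime_two⟩
  have hle := (TT).U1_le_G1
  have hcard : Nat.card ((TT).U1.subgroupOf (TT).G1) = q ^ 36 := by
    rw [Nat.card_congr (Subgroup.subgroupOfEquivOfLe hle).toEquiv,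
      (TT).card_U1 (q := q) fun a => e6_card_par φ hφ hqφ hq2 hK a, shape.2]
  obtain ⟨m, hm⟩ : ∃ m, q = 2 ^ m := by
    obtain ⟨n, -, hn⟩ := FiniteField.card K 2
    obtain ⟨m, -, hm⟩ := (Nat.dvd_prime_pow Nat.prime_two).1 (hn ▸ hK ▸ dvd_pow_self q two_ne_zero)
    exact ⟨m, hm⟩
  have hUp : IsPGroup 2 ((TT).U1.subgroupOf (TT).G1) :=
    IsPGroup.of_card (n := m * 36) (by rw [hcard, hm, ← pow_mul])
  have hidx : ¬ 2 ∣ ((TT).U1.subgroupOf (TT).G1).index := by
    have h := ((TT).U1.subgroupOf (TT).G1).card_mul_index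
    have h' := e6_card_G1 φ hφ hqφ hq2 hK
    rw [← h, hcard] at h'
    have hqp : 0 < q ^ 36 := pow_pos (by omega) 36
    rw [mul_left_comm, mul_assoc (q ^ 36), mul_assoc (q ^ 36), mul_assoc (q ^ 36), mul_assoc (q ^ 36),
      mul_assoc (q ^ 36)] at h'
    have h'' := Nat.eq_of_mul_eq_mul_left hqp h'
    have hd : 2 ∣ q := by
      rcases Nat.eq_zero_or_pos m with rfl | hm0
      · simp at hm; omega
      · exact hm ▸ dvd_pow_self 2 hm0.ne'
    have h1 : ∀ k, k ≠ 0 → ¬ 2 ∣ (q ^ k - 1) := fun k hk h1 => by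
      have h2 : 2 ∣ q ^ k := dvd_pow hd hk
      have h3 : 1 ≤ q ^ k := Nat.one_le_pow _ _ (by omega)
      omega
    have h2 : ∀ k, k ≠ 0 → ¬ 2 ∣ (q ^ k + 1) := fun k hk h1 => by
      have h2 : 2 ∣ q ^ k := dvd_pow hd hk
      omega
    intro hdvd
    have := h'' ▸ hdvd.mul_left (Nat.gcd 3 (q + 1))
    exact Nat.prime_two.not_dvd_mul (Nat.prime_two.not_dvd_mul (Nat.prime_two.not_dvd_mul
      (Nat.prime_two.not_dvd_mul (Nat.prime_two.not_dvd_mul (h1 2 (by norm_num)) (h2 5 (by norm_num)))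
        (h1 6 (by norm_num))) (h1 8 (by norm_num))) (h2 9 (by norm_num))) (h1 12 (by norm_num)) this
  let S := hUp.toSylow hidx
  set x : ↥(TT).G1 := ⟨g, hg⟩ with hx
  have hx2 : x ^ 2 = 1 := Subtype.ext (by rw [pow_two]; exact hsq)
  have hxp : IsPGroup 2 (Subgroup.zpowers x) := by
    rintro ⟨y, hy⟩
    obtain ⟨i, rfl⟩ := Subgroup.mem_zpowers_iff.1 hy
    refine ⟨1, Subtype.ext ?_⟩
    show (x ^ i) ^ 2 ^ 1 = 1
    rw [pow_one, ← zpow_natCast, ← zpow_mul, mul_comm, zpow_mul, zpow_natCast, hx2, one_zpow]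
  obtain ⟨T', hT⟩ := hxp.exists_le_sylow
  obtain ⟨k, hk⟩ := MulAction.exists_smul_eq ↥(TT).G1 T' S
  refine ⟨(k * x * k⁻¹ : ↥(TT).G1), ?_, (k : GL chevE6.Idx K), k.2, rfl⟩
  have : k * x * k⁻¹ ∈ (S : Subgroup ↥(TT).G1) := by
    rw [← hk]
    exact ⟨x, hT (Subgroup.mem_zpowers x), by simp [MulAut.conj_apply]⟩
  rwa [IsPGroup.toSylow_coe, Subgroup.mem_subgroupOf] at this

theorem reps_chk : ∀ k < 4, isSub (repsX.getD k []) ordL &&
    (List.range' 36 36).all (fun r =>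
      (repsX.getD k []).contains (rhoN r) == (repsX.getD k []).contains r) &&
    (OrthInvol.suppW chevE6 (repsX.getD k [] ++ repsX.getD k [])).isEmpty = true := by
  decide +kernel

/-- The indicator of a set of roots. -/
def ind (S : List ℕ) (r : ℕ) : K := if r ∈ S then 1 else 0

theorem repX_spec {k : ℕ} (hk : k < 4) :
    XL hE (repsX.getD k []) = kProd (ind (repsX.getD k []) : ℕ → K) ∧
      Fixed φ (ind (repsX.getD k []) : ℕ → K) ∧
      XL hE (repsX.getD k []) (F := K) * XL hE (repsX.getD k []) = 1 := by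
  have h := reps_chk k hk
  simp only [Bool.and_eq_true, List.all_eq_true, beq_iff_eq, decide_eq_true_eq] at h
  obtain ⟨⟨h1, h2⟩, h3⟩ := h
  refine ⟨?_, fun r a b => ?_, ?_⟩
  · rw [← wordC_sub h1 (fun r _ hr => by simp [ind, hr, -List.getD_eq_getElem?_getD]), wordC_gw]
    exact congrArg (wordG hE) (List.map_congr_left fun r hr => by simp [ind, hr, -List.getD_eq_getElem?_getD])
  · have := h2 r (List.mem_range'_1.2 (by omega))
    have hiff : rhoN r ∈ repsX.getD k [] ↔ r ∈ repsX.getD k [] := by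
      rw [← List.contains_iff_mem, ← List.contains_iff_mem, this]
    by_cases hr : r ∈ repsX.getD k []
    · simp only [ind, if_pos hr, if_pos (hiff.2 hr), map_one]
    · simp only [ind, if_neg hr, if_neg (fun e => hr (hiff.1 e)), map_zero]
  · have := OrthInvol.wordC_suppW hE (repsX.getD k [] ++ repsX.getD k []) (F := K)
    rw [List.isEmpty_iff.1 h3] at this
    simpa [XL, wordG, List.map_append, List.prod_append] using this

theorem repsX_reps : ∀ k < 4, k = 2 ∨ ∃ j < 3, reps.getD j [] = repsX.getD k [] := by decide +kernel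

theorem reps_repsX : ∀ k < 3, ∃ j < 4, repsX.getD j [] = reps.getD k [] := by decide +kernel

theorem rank_spec {k : ℕ} (hk : k < 3) :
    (((XL hE (reps.getD k []) : GL chevE6.Idx K) : Matrix chevE6.Idx chevE6.Idx K) - 1).rank =
      ([22, 32, 38] : List ℕ).getD k 0 := by
  have h := rank_chk
  simp only [allBelow_iff, force_eq, Bool.and_eq_true, nbeq_iff] at h
  obtain ⟨h1, h2⟩ := h k hk
  rw [OrthInvol.rank_eq_of_chk hE e6_checks h1, h2]
  interval_cases k <;> rfl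

theorem rep_ne_one {k : ℕ} (hk : k < 3) : (XL hE (reps.getD k []) : GL chevE6.Idx K) ≠ 1 := by
  intro e
  have := rank_spec (K := K) hk
  rw [e, Units.val_one, sub_self, Matrix.rank_zero] at this
  interval_cases k <;> simp at this

theorem eq_of_cj {i j : ℕ} (hi : i < 3) (hj : j < 3)
    (h : Cj φ hφ (XL hE (reps.getD i [])) (XL hE (reps.getD j []))) : i = j := by
  have e1 := OrthInvol.rank_conj h
  rw [rank_spec hi, rank_spec hj] at e1
  interval_cases i <;> interval_cases j <;> simp_all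

variable [Fintype K]

theorem classes_U (hne : ∃ x : K, φ x ≠ x) {g : GL chevE6.Idx K} (hg : g ∈ (TT).U1)
    (hsq : g * g = 1) (hg1 : g ≠ 1) :
    ∃ k < 3, Cj φ hφ g (XL hE (reps.getD k [])) := by
  obtain ⟨t, ht, rfl⟩ := exists_fixed hg
  obtain ⟨t1, t2, t3⟩ := top
  rcases claim_all (φ := φ) (hφ := hφ) hne tree t ht (fun r hr hr' => absurd (t1 ▸ hr) hr')
      (fun r hr => absurd hr (by rw [t2]; simp)) hsq with h | ⟨k, hk, h⟩
  · exact absurd h hg1
  have hk : k < 4 := hk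
  rcases repsX_reps k hk with rfl | ⟨j, hj, e⟩
  · obtain ⟨e1, e2, e3⟩ := repX_spec (φ := φ) (K := K) (k := 2) (by norm_num)
    have hX : ∀ i ≤ 1, chkNode reps tabX i (tabX.getD i node0) = true := fun i hi =>
      chkRange_spec treeX i (Nat.zero_le _) (by omega)
    have hmem : ∀ r, r ∈ ([66, 68, 71] : List ℕ) → ind (repsX.getD 2 []) r = (1 : K) := fun r hr => by
      rw [ind, if_pos]
      exact hr
    rcases claim_all (φ := φ) (hφ := hφ) hne hX (ind (repsX.getD 2 [])) e2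
        (fun r _ hr => by
          rw [ind, if_neg]
          rw [t3] at hr
          exact hr)
        (fun r hr => by
          rw [hmem r hr]
          exact one_ne_zero)
        (e1 ▸ e3) with h' | ⟨j, hj, h'⟩
    · refine absurd ?_ hg1
      rw [e1, h'] at h
      obtain ⟨x, -, hx⟩ := h
      exact conj_eq_one_iff.1 hx
    · exact ⟨j, hj, CjS.trans h (e1 ▸ h')⟩
  · exact ⟨j, hj, e ▸ h⟩

theorem class_count {q : ℕ} (hqφ : ∀ (j : ℕ) (t : K), (φ ^ j) t = t ^ q ^ j) (hq2 : 2 ≤ q)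
    (hK : Fintype.card K = q ^ 2) (hne : ∃ x : K, φ x ≠ x) :
    (ConjClasses.mk '' {g : ↥(TT).G1 | orderOf g = 2}).ncard = 3 := by
  classical
  have mem : ∀ k < 3, (XL hE (reps.getD k []) : GL chevE6.Idx K) ∈ (TT).G1 ∧
      XL hE (reps.getD k []) (F := K) * XL hE (reps.getD k []) = 1 := by
    intro k hk
    obtain ⟨j, hj, e⟩ := reps_repsX k hk
    obtain ⟨e1, e2, e3⟩ := repX_spec (φ := φ) (K := K) hj
    rw [← e]
    exact ⟨e1 ▸ (TT).U1_le_G1 (kProd_mem_U1 e2), e3⟩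
  have ord : ∀ x : ↥(TT).G1, orderOf x = 2 ↔
      (x : GL chevE6.Idx K) * x = 1 ∧ (x : GL chevE6.Idx K) ≠ 1 := by
    intro x
    rw [orderOf_eq_prime_iff, pow_two, ne_eq, ← Subtype.coe_inj, ← Subtype.coe_inj (b := (1 : ↥(TT).G1))]
    rfl
  set f : Fin 3 → ConjClasses ↥(TT).G1 := fun k =>
    ConjClasses.mk ⟨XL hE (reps.getD k []), (mem k k.2).1⟩
  have hinj : Function.Injective f := by
    intro i j e
    obtain ⟨c, hc⟩ := isConj_iff.1 (ConjClasses.mk_eq_mk_iff_isConj.1 e)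
    have hc' := congrArg Subtype.val hc
    simp only [Subgroup.coe_mul, Subgroup.coe_inv] at hc'
    exact Fin.ext (eq_of_cj i.2 j.2 ⟨(c : GL chevE6.Idx K), c.2, hc'⟩)
  have key : ConjClasses.mk '' {g : ↥(TT).G1 | orderOf g = 2} = Set.range f := by
    ext C
    constructor
    · rintro ⟨x, hx, rfl⟩
      obtain ⟨h1, h2⟩ := (ord x).1 hx
      obtain ⟨y, hy, hc⟩ := exists_conj_U hqφ hq2 hK x.2 h1
      obtain ⟨e, he, rfl⟩ := hc
      have hy1 : e * x * e⁻¹ ≠ 1 := fun e1 => h2 (conj_eq_one_iff.1 e1)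
      have hy2 : e * (x : GL chevE6.Idx K) * e⁻¹ * (e * x * e⁻¹) = 1 := by
        rw [show e * (x : GL chevE6.Idx K) * e⁻¹ * (e * x * e⁻¹) = e * (x * x) * e⁻¹ by group, h1,
          mul_one, mul_inv_cancel]
      obtain ⟨k, hk, e', he', h'⟩ := classes_U hne hy hy2 hy1
      refine ⟨⟨k, hk⟩, (ConjClasses.mk_eq_mk_iff_isConj.2 (isConj_iff.2
        ⟨⟨e' * e, Subgroup.mul_mem _ he' he⟩, Subtype.ext ?_⟩)).symm⟩
      simp only [Subgroup.coe_mul, Subgroup.coe_inv]
      rw [← h']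
      group
    · rintro ⟨k, rfl⟩
      exact ⟨_, (ord _).2 ⟨(mem k k.2).2, rep_ne_one k.2⟩, rfl⟩
  rw [key, ← Set.image_univ, Set.ncard_image_of_injective _ hinj, Set.ncard_univ, Nat.card_fin]

end E6Invol

end Cfsg.Agent.Chev
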