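import Cfsg.Agent.Chev.E6Invol.Data

/-! The certificate for `²E₆` is valid. -/

set_option autoImplicit false
set_option maxRecDepth 100000

namespace Cfsg.Agent.Chev

open Cfsg.Lie

namespace E6Invol

theorem tree0 : chkRange repsX tab 0 175 = true := by decide +kernel

theorem tree1 : chkRange repsX tab 175 175 = true := by decide +kernel

theorem tree2 : chkRange repsX tab 350 175 = true := by decide +kernel

theorem tree3 : chkRange repsX tab 525 175 = true := by decide +kernel

theorem treeX : chkRange reps tabX 0 2 = true := by decide +kernel

theorem tree : ∀ i ≤ 699, chkNode repsX tab i (tab.getD i node0) = true := by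
  intro i hi
  rcases Nat.lt_or_ge i 175 with h | h0
  · exact chkRange_spec tree0 i (by omega) (by omega)
  rcases Nat.lt_or_ge i 350 with h | h1
  · exact chkRange_spec tree1 i (by omega) (by omega)
  rcases Nat.lt_or_ge i 525 with h | h2
  · exact chkRange_spec tree2 i (by omega) (by omega)
  exact chkRange_spec tree3 i (by omega) (by omega)

theorem top : (tab.getD 699 node0).sup = ordL ∧ (tab.getD 699 node0).nz = [] ∧
    (tabX.getD 1 node0).sup = [66, 68, 71] := by
  decide +kernel

end E6Invol

end Cfsg.Agent.Chev
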