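import Cfsg.Agent.Chev.E6Invol.Coords
import Cfsg.Agent.Chev.Check.E6

/-!
The certificate checker for elements of square one in the positive unipotent subgroup of `²E₆`.
-/

set_option autoImplicit false
set_option maxRecDepth 100000
set_option maxHeartbeats 1000000

namespace Cfsg.Agent.Chev

open Cfsg.Lie

universe u

namespace E6Invol

open OrthInvol (XL CjS cImg)
open UniCert (cf gw norm)

local notation "hE" => facts_chevE6

/-- The orbit of a root as a word, with two variables. -/
def yW (a : ℕ) : List (ℕ × CE) :=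
  bif rhoN a == a then [(a, CE.var 100)] else [(a, CE.var 100), (rhoN a, CE.var 101)]

/-- The orbit of a root as a list. -/
def yL (a : ℕ) : List ℕ := bif rhoN a == a then [a] else [a, rhoN a]

/-- The orbits of the nodes. -/
def flatA (a : Fin 4) : List ℕ := ([[0, 5], [2, 4], [3], [1]] : List (List ℕ)).getD a []

/-- The action of the twist on the variables. -/
def phiV (x : ℕ) : ℕ := bif x == 100 then 101 else bif x == 101 then 100 else rhoN x

/-- A conjugation by a constant orbit element or by a word of the twisted Weyl group. -/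
inductive Mv where
  | cj : ℕ → Mv
  | wd : List (Fin 4) → Mv

/-- How the parameter of a conjugation is found. -/
inductive How where
  | fix : List ℕ → How
  | free : List ℕ → How
  | tr : List ℕ → List ℕ → How
  | rel : List ℕ → ℕ → List ℕ → List ℕ → List ℕ → How

/-- How a node is settled. -/
inductive Act where
  | one : Act
  | zero : ℕ → ℕ → ℕ → Act
  | split : ℕ → ℕ → ℕ → Act
  | kill : ℕ → ℕ → ℕ → ℕ → How → Act
  | leaf : ℕ → List (List ℤ) → ℕ → List Mv → Act

/-- A node: the possible support, the roots with nonzero parameter, and the action. -/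
structure Node where
  sup : List ℕ
  nz : List ℕ
  act : Act

/-- The collected square. -/
def sqW (S : List ℕ) : List (ℕ × List (List ℕ)) := collPoly chevE6 keyT 400 (gw S ++ gw S)

/-- The collected conjugate. -/
def cjW (a : ℕ) (S : List ℕ) : List (ℕ × List (List ℕ)) :=
  collPoly chevE6 keyT 400 (yW a ++ gw S ++ yW a)

/-- The monomial without the auxiliary variable. -/
def core (m : List ℕ) : List ℕ := m.filter fun x => !(x == 100)

/-- The check of the shape of a monomial. -/
def chkM (nz : List ℕ) (e : ℕ) (m : List ℕ) : Bool :=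
  Nat.beq (m.filter fun x => x == 100).length (2 ^ e) &&
    (core m).all (fun x => nz.contains x)

/-- The check of the choice of the parameter. -/
def chkHow (S nz : List ℕ) (a s e : ℕ) (c : List (List ℕ)) : How → Bool
  | .fix m => rhoN a == a && (rhoN s == s && (chkM nz e m && (c.isPerm [[s], m] &&
      ((core m).map rhoN).isPerm (core m))))
  | .free m => !(rhoN a == a) && (chkM nz e m && c.isPerm [[s], m])
  | .tr m m' => !(rhoN a == a) && (rhoN s == s && (chkM nz e m && (c.isPerm [[s], m, m'] &&
      (m.map phiV).isPerm m')))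
  | .rel m u x y R => rhoN a == a && (chkM nz e m && (c.isPerm [[s], m] &&
      (isSub ((sqW S).map Prod.fst) ordL && (ordL.contains u &&
      ((cf (sqW S) u).isPerm [x, y] && ((x.map phiV).isPerm y &&
      (x.isPerm (s :: ((core m).map rhoN ++ R)) &&
      ((R.map rhoN).isPerm R && R.all (fun r => nz.contains r)))))))))

/-- The roots of a collected constant word after one move. -/
noncomputable def step (L : List ℕ) : Mv → Option (List ℕ)
  | .cj a => bif Nat.ble 36 a && Nat.blt a 72 then norm chevE6 (yL a ++ L ++ yL a) else none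
  | .wd w => norm chevE6 (L.map (cImg e6Cert (w.flatMap flatA)))

/-- A list of moves. -/
noncomputable def run : List ℕ → List Mv → Option (List ℕ)
  | L, [] => some L
  | L, m :: ms => match step L m with
    | some L' => run L' ms
    | none => none

/-- The check of the exponent matrix. -/
noncomputable def chkExp (S : List ℕ) (B : List (List ℤ)) (d : ℕ) : Bool :=
  UniCert.chkExp chevE6 e6Cert S B d

/-- The default node. -/
def node0 : Node := ⟨[], [], .one⟩

/-- The check of one node. -/
noncomputable def chkNode (reps : List (List ℕ)) (tab : List Node) (i : ℕ) (nd : Node) : Bool :=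
  isSub nd.sup ordL && (nd.nz.all (fun x => Nat.ble 36 x && Nat.blt x 72) &&
  match nd.act with
  | .one => nd.sup.isEmpty
  | .zero m r j =>
      isSub ((sqW nd.sup).map Prod.fst) ordL && (Nat.blt j i && (ordL.contains m && (ordL.contains r &&
      (UniCert.chkMono (cf (sqW nd.sup) m) (fun x => x == r || x == rhoN r || nd.nz.contains x) &&
      ((tab.getD j node0).nz.all (fun x => nd.nz.contains x) &&
      nd.sup.all (fun x => x == r || x == rhoN r || (tab.getD j node0).sup.contains x))))))
  | .split r a b =>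
      Nat.blt a i && (Nat.blt b i && (ordL.contains r &&
      ((tab.getD a node0).nz.all (fun x => nd.nz.contains x) &&
      (nd.sup.all (fun x => x == r || x == rhoN r || (tab.getD a node0).sup.contains x) &&
      ((tab.getD b node0).nz.all (fun x => x == r || x == rhoN r || nd.nz.contains x) &&
      nd.sup.all (fun x => (tab.getD b node0).sup.contains x))))))
  | .kill a s j e h =>
      isSub ((cjW a nd.sup).map Prod.fst) ordL && (Nat.blt j i && (ordL.contains a && (ordL.contains s &&
      (chkHow nd.sup nd.nz a s e (cf (cjW a nd.sup) s) h &&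
      ((tab.getD j node0).nz.all (fun x => nd.nz.contains x &&
          (!(x == s) && (!(x == rhoN s) && cf (cjW a nd.sup) x == [[x]]))) &&
      (cjW a nd.sup).all (fun p => p.1 == s || p.1 == rhoN s || p.2.isEmpty ||
        (tab.getD j node0).sup.contains p.1))))))
  | .leaf e B k ms =>
      nd.sup.all (fun x => nd.nz.contains x && nd.sup.contains (rhoN x)) &&
      (chkExp nd.sup B (2 ^ e) && (Nat.blt k reps.length &&
      match run nd.sup ms, norm chevE6 (reps.getD k []) with
        | some L, some L' => L == L'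
        | _, _ => false)))

theorem y_chk : (List.range' 36 36).all (fun a => rhoN a == a ||
    (collPoly chevE6 keyT 400 [(rhoN a, CE.var 101), (a, CE.var 100)] ==
      collPoly chevE6 keyT 400 [(a, CE.var 100), (rhoN a, CE.var 101)])) = true := by
  decide +kernel

theorem flat_chk : ∀ a : Fin 4, (List.range (e6Len a)).map (fun j =>
    ((orbNode e6_flip_π e6Base a j : Fin chevE6.rank) : ℕ)) = flatA a := by
  decide +kernel

theorem pi_chk : ∀ i : Fin chevE6.rank, e6_flip_π (e6_flip_π i) = i := by decide +kernel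

variable {K : Type u} [Field K] [CharP K 2] {φ : K →+* K} {hφ : ∀ t, (φ ^ 2) t = t}

local notation "TT" => twistE6 K φ hφ

variable (φ hφ) in
/-- Conjugacy in the twisted group. -/
def Cj (g h : GL chevE6.Idx K) : Prop := CjS (TT).G1 g h

/-- The parameters, with values for the auxiliary variables. -/
def env (φ : K →+* K) (t : ℕ → K) (v : K) (x : ℕ) : K :=
  if x = 100 then v else if x = 101 then φ v else t x

omit [CharP K 2] in
theorem env_root (t : ℕ → K) (v : K) {x : ℕ} (h : x < 72) : env φ t v x = t x := by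
  have h1 : x ≠ 100 := by omega
  have h2 : x ≠ 101 := by omega
  simp [env, h1, h2]

omit [CharP K 2] in
theorem env_phiV (hφ : ∀ t, (φ ^ 2) t = t) {t : ℕ → K} (ht : Fixed φ t) (v : K) {x : ℕ}
    (hx : x = 100 ∨ x = 101 ∨ (36 ≤ x ∧ x < 72)) : env φ t v (phiV x) = φ (env φ t v x) := by
  rcases hx with rfl | rfl | ⟨h1, h2⟩
  · simp [phiV, env]
  · simp [phiV, env, phi2 hφ]
  · have a1 : (x == 100) = false := by simp; omega
    have a2 : (x == 101) = false := by simp; omega
    simp only [phiV, a1, a2, cond_false]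
    rw [env_root t v (rhoN_range h1 h2).2.1, env_root t v h2, ht x h1 h2]

omit [CharP K 2] in
theorem prod_rho {t : ℕ → K} (ht : Fixed φ t) : ∀ {l : List ℕ}, (∀ x ∈ l, 36 ≤ x ∧ x < 72) →
    ((l.map rhoN).map t).prod = φ (l.map t).prod
  | [], _ => by simp
  | x :: l, h => by
    simp only [List.map_cons, List.prod_cons, map_mul]
    rw [prod_rho ht fun y hy => h y (List.mem_cons_of_mem _ hy),
      ht x (h x (List.mem_cons_self ..)).1 (h x (List.mem_cons_self ..)).2]

theorem wordC_ordW (ρ : ℕ → K) (S : List ℕ) (w : List (ℕ × CE))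
    (h : isSub ((collPoly chevE6 keyT 400 (w ++ gw S ++ w)).map Prod.fst) ordL = true) :
    wordC hE ρ w * wordC hE ρ (gw S) * wordC hE ρ w =
      kProd fun r => CE.pval ρ (cf (collPoly chevE6 keyT 400 (w ++ gw S ++ w)) r) := by
  rw [← wordC_append, ← wordC_append, wordC_collPoly hE ρ keyT 400, wordG_ordL ρ _ h]

theorem yW_spec {a : ℕ} (ha : a ∈ ordL) (ρ : ℕ → K) (h1 : ρ 101 = φ (ρ 100))
    (hv : rhoN a = a → φ (ρ 100) = ρ 100) :
    wordC hE ρ (yW a) ∈ (TT).U1 ∧ (wordC hE ρ (yW a))⁻¹ = wordC hE ρ (yW a) := by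
  obtain ⟨a1, a2⟩ := ordL_range ha
  obtain ⟨b1, b2, b3⟩ := rhoN_range a1 a2
  have hmem : ∀ b, 36 ≤ b → b < 72 → ∀ t : K, xG hE b t ∈ chevE6.posUnipotent K :=
    fun b c1 c2 t => mem_posUnipotent_of hE (shape.1 ▸ c2) (shape.2 ▸ c1) t
  have la : a < chevE6.nroots := ordL_lt ha
  by_cases he : rhoN a = a
  · have e : wordC hE ρ (yW a) = xG hE a (ρ 100) := by simp [yW, he, wordC, wordG, CE.val]
    rw [e]
    refine ⟨⟨hmem a a1 a2 _, (TT).mem_fx.2 ?_⟩, OrthInvol.xG_inv_two hE a _⟩
    rw [σ_root la, he, hv he]
  · have hc := List.all_eq_true.1 y_chk a (List.mem_range'_1.2 (by omega))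
    rw [beq_eq_false_iff_ne.2 he, Bool.false_or, beq_iff_eq] at hc
    have comm : xG hE (rhoN a) (ρ 101) * xG hE a (ρ 100) = xG hE a (ρ 100) * xG hE (rhoN a) (ρ 101) := by
      have := (wordC_collPoly hE ρ keyT 400 [(rhoN a, CE.var 101), (a, CE.var 100)]).trans
        ((congrArg (fun w : List (ℕ × List (List ℕ)) =>
          wordG hE (w.map fun p => (p.1, CE.pval ρ p.2))) hc).trans
          (wordC_collPoly hE ρ keyT 400 [(a, CE.var 100), (rhoN a, CE.var 101)]).symm)
      simpa [wordC, wordG, CE.val] using this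
    have e : wordC hE ρ (yW a) = xG hE a (ρ 100) * xG hE (rhoN a) (ρ 101) := by
      simp [yW, beq_eq_false_iff_ne.2 he, wordC, wordG, CE.val]
    rw [e]
    refine ⟨⟨Subgroup.mul_mem _ (hmem a a1 a2 _) (hmem _ b1 b2 _), (TT).mem_fx.2 ?_⟩, ?_⟩
    · rw [map_mul, σ_root la, σ_root (shape.1 ▸ b2), b3, h1, phi2 hφ, ← h1, comm]
    · rw [mul_inv_rev, OrthInvol.xG_inv_two, OrthInvol.xG_inv_two, comm]

theorem nWord_XL : ∀ (w : List (Fin chevE6.rank)) (L : List ℕ), (∀ r ∈ L, r < chevE6.nroots) →
    (∀ r ∈ L, cImg e6Cert (w.map Fin.val) r < chevE6.nroots) ∧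
      nWord hE w * XL hE L (F := K) = XL hE (L.map (cImg e6Cert (w.map Fin.val))) * nWord hE w
  | [], L, h => by
    have e : L.map (cImg e6Cert (([] : List (Fin chevE6.rank)).map Fin.val)) = L := by
      show L.map (fun r => r) = L
      simp
    rw [e]
    exact ⟨fun r hr => h r hr, by simp [nWord]⟩
  | i :: w, L, h => by
    obtain ⟨h1, h2⟩ := nWord_XL w L h
    have e : L.map (cImg e6Cert ((i :: w).map Fin.val)) =
        (L.map (cImg e6Cert (w.map Fin.val))).map (chevE6.reflectRoot i) := by
      rw [List.map_map]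
      refine List.map_congr_left fun r hr => ?_
      show e6Cert.cW i (cImg e6Cert (w.map Fin.val) r) = chevE6.reflectRoot i _
      exact (refl_split e6_checks i.2 (h1 r hr)).1.symm
    refine ⟨fun r hr => (refl_split e6_checks i.2 (h1 r hr)).2.1, ?_⟩
    rw [e, nWord_cons, mul_assoc, h2, ← mul_assoc,
      OrthInvol.nS_XL hE i _ (fun r hr => by
        obtain ⟨x, hx, rfl⟩ := List.mem_map.1 hr; exact h1 x hx), mul_assoc]

theorem nA_words : ∀ w : List (Fin (TT).m),
    (w.map (TT).nA).prod = nWord hE (w.flatMap fun a => (TT).orb a) ∧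
      (w.flatMap fun a => (TT).orb a).map Fin.val = w.flatMap flatA
  | [] => ⟨rfl, rfl⟩
  | a :: w => by
    obtain ⟨h1, h2⟩ := nA_words w
    refine ⟨?_, ?_⟩
    · rw [List.map_cons, List.prod_cons, h1, List.flatMap_cons, nWord_append]
      rfl
    · rw [List.flatMap_cons, List.map_append, h2]
      show _ = flatA a ++ _
      congr 1
      refine Eq.trans ?_ (flat_chk a)
      rw [Twist.orb, List.map_map]
      rfl

theorem step_spec {L M : List ℕ} (hL : ∀ r ∈ L, r < chevE6.nroots) {m : Mv}
    (hs : step L m = some M) :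
    Cj φ hφ (XL hE L) (XL hE M) ∧ ∀ r ∈ M, r < chevE6.nroots := by
  cases m with
  | cj a =>
    simp only [step] at hs
    cases ha : Nat.ble 36 a && Nat.blt a 72
    · simp [ha] at hs
    · rw [ha, cond_true] at hs
      simp only [Bool.and_eq_true, Nat.ble_eq, Nat.blt_eq] at ha
      obtain ⟨e, hM⟩ := UniCert.norm_spec hE hs (F := K)
      obtain ⟨hy, hinv⟩ := yW_spec (hφ := hφ) (mem_ordL ha.1 ha.2) (fun _ => (1 : K)) (map_one φ).symm
        (fun _ => map_one φ)
      refine ⟨⟨_, (TT).U1_le_G1 hy, ?_⟩, hM⟩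
      rw [← e, hinv]
      by_cases he : rhoN a = a
      · simp [yW, yL, he, wordC, wordG, CE.val, XL, mul_assoc]
      · simp [yW, yL, beq_eq_false_iff_ne.2 he, wordC, wordG, CE.val, XL, mul_assoc]
  | wd w =>
    simp only [step] at hs
    obtain ⟨e, hM⟩ := UniCert.norm_spec hE hs (F := K)
    refine ⟨⟨(w.map (TT).nA).prod, Subgroup.list_prod_mem _ fun g hg => ?_, ?_⟩, hM⟩
    · obtain ⟨a, -, rfl⟩ := List.mem_map.1 hg
      exact (TT).nA_mem_G1 a
    · obtain ⟨e1, e2⟩ := nA_words (φ := φ) (hφ := hφ) w
      have h := (nWord_XL (K := K) ((w : List (Fin (TT).m)).flatMap fun a => (TT).orb a) L hL).2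
      rw [← e]
      refine mul_inv_eq_iff_eq_mul.2 ?_
      refine ((congrArg (· * XL hE L) e1).trans h).trans ?_
      exact congrArg₂ (fun l g => XL hE (L.map (cImg e6Cert l)) * g) e2 e1.symm

theorem run_spec : ∀ (ms : List Mv) (L L' : List ℕ), (∀ r ∈ L, r < chevE6.nroots) →
    run L ms = some L' → Cj φ hφ (XL hE L) (XL hE L')
  | [], L, L', _, h => by
    simp only [run, Option.some.injEq] at h
    subst h
    exact ⟨1, Subgroup.one_mem _, by simp⟩
  | m :: ms, L, L', hL, h => by
    rw [run] at h
    cases hs : step L m with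
    | none => rw [hs] at h; simp at h
    | some M =>
      rw [hs] at h
      obtain ⟨h1, h2⟩ := step_spec (φ := φ) (hφ := hφ) hL hs
      exact CjS.trans h1 (run_spec ms M L' h2 h)

variable [Fintype K]

theorem pow_inj {a b : K} (e : ℕ) (h : a ^ (2 ^ e) = b ^ (2 ^ e)) : a = b := by
  refine (iterateFrobenius_inj K 2 e) ?_
  simpa [iterateFrobenius_def] using h

theorem exists_root (e : ℕ) (x : K) : ∃ v : K, v ^ (2 ^ e) = x := by
  obtain ⟨v, hv⟩ := (iterateFrobeniusEquiv K 2 e).surjective x
  rw [iterateFrobeniusEquiv_apply, iterateFrobenius_def] at hv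
  exact ⟨v, hv⟩

theorem scale_leaf {S : List ℕ} {B : List (List ℤ)} {e : ℕ}
    (hB : chkExp S B (2 ^ e) = true) (hS : ∀ r ∈ S, 36 ≤ r ∧ r < 72)
    (hclosed : ∀ r ∈ S, rhoN r ∈ S) {t : ℕ → K} (ht : Fixed φ t) (hne : ∀ r ∈ S, t r ≠ 0) :
    ∃ c ∈ (TT).cfix, ∀ r ∈ S, (chiU c r : K) * t r = 1 := by
  have hS' : ∀ r ∈ S, r < chevE6.nroots := fun r hr => shape.1 ▸ (hS r hr).2
  simp only [chkExp, UniCert.chkExp, allBelow_iff, zbeq_iff, OrthInvol.zsum_eq] at hB
  have hroot : ∀ i : Fin S.length, ∃ U : Kˣ, ((U : K)) ^ (2 ^ (e + 1)) = (t (S.getD i 0))⁻¹ := by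
    intro i
    have hne' := hne _ (show S.getD i 0 ∈ S by simp)
    obtain ⟨l, hl⟩ := exists_root (e + 1) (t (S.getD i 0))⁻¹
    refine ⟨Units.mk0 l fun h0 => ?_, hl⟩
    rw [h0, zero_pow (pow_ne_zero _ two_ne_zero)] at hl
    exact inv_ne_zero hne' hl.symm
  choose U hU using hroot
  set c0 : Fin chevE6.rank → Kˣ := fun j => ∏ k : Fin S.length, U k ^ (B.getD j []).getD k 0 with hc0
  have hchi : ∀ (i : ℕ) (hi : i < S.length), chiU c0 S[i] = U ⟨i, hi⟩ ^ (2 ^ e) := by
    intro i hi
    have hge : S.getD i 0 = S[i] := by simp [hi]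
    have hr : S[i] ∈ S := List.getElem_mem hi
    simp only [hc0, chiU, ← Finset.prod_zpow, ← zpow_mul]
    rw [Finset.prod_comm]
    simp only [UniCert.zpow_sum']
    rw [Finset.prod_eq_single (⟨i, hi⟩ : Fin S.length)]
    · rw [← zpow_natCast]
      congr 1
      have := hB i hi i hi
      simp only [show Nat.beq i i = true from nbeq_iff.2 rfl, cond_true, hge, Int.mul_def] at this
      rw [show ((2 ^ e : ℕ) : ℤ) = Int.ofNat (2 ^ e) from rfl, ← this]
      exact Finset.sum_congr rfl fun j _ => by rw [cartan_eq e6_checks j.2 (hS' _ hr), mul_comm]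
    · intro k _ hk
      have := hB i hi k k.2
      have hne : Nat.beq i k = false := nbeq_false_iff.2 fun h => hk (Fin.ext h.symm)
      simp only [hne, cond_false, hge, Int.mul_def] at this
      rw [show ∑ j : Fin chevE6.rank, (B.getD j []).getD k 0 * chevE6.cartan j S[i] = 0 from
        (Finset.sum_congr rfl fun j _ => by rw [cartan_eq e6_checks j.2 (hS' _ hr), mul_comm]).trans this,
        zpow_zero]
    · exact fun h => absurd (Finset.mem_univ _) h
  have hsq : ∀ r ∈ S, (chiU c0 r : K) ^ 2 * t r = 1 := by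
    intro r hr
    obtain ⟨i, hi, rfl⟩ := List.getElem_of_mem hr
    have hge : S.getD i 0 = S[i] := by simp [hi]
    rw [hchi i hi, Units.val_pow_eq_pow_val, ← pow_mul, ← pow_succ, hU]
    simp only [hge]
    exact inv_mul_cancel₀ (hne _ hr)
  refine ⟨c0 * (TT).σt c0, ?_, fun r hr => ?_⟩
  · rw [Twist.mem_cfix, map_mul]
    have : (TT).σt ((TT).σt c0) = c0 := by
      funext i
      apply Units.ext
      show φ (φ (c0 (e6_flip_π.symm (e6_flip_π.symm i)) : K)) = _
      rw [phi2 hφ]
      congr 2
      rw [Equiv.symm_apply_eq, Equiv.symm_apply_eq, pi_chk]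
    rw [this, mul_comm]
  · obtain ⟨h1, h2⟩ := hS r hr
    obtain ⟨b1, b2, b3⟩ := rhoN_range h1 h2
    have e1 : (chiU ((TT).σt c0) r : K) = φ (chiU c0 (rhoN r) : K) := by
      have hp := (TT).chiU_perm (fun i => Units.map φ.toMonoidHom (c0 i))
        (⟨rhoN r, shape.1 ▸ b2⟩ : Fin chevE6.nroots)
      have e2 : (((TT).ρ ⟨rhoN r, shape.1 ▸ b2⟩ : Fin chevE6.nroots) : ℕ) = r :=
        (rho_chk _).trans b3
      rw [e2] at hp
      show (chiU (fun i => Units.map φ.toMonoidHom (c0 ((TT).π.symm i))) r : K) = _
      rw [hp]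
      simp only [chiU, Units.coe_prod, map_prod]
      refine Finset.prod_congr rfl fun j _ => ?_
      simp
    have e3 : φ (chiU c0 (rhoN r) : K) = chiU c0 r := by
      refine pow_inj 1 ?_
      rw [pow_one, ← map_pow]
      refine mul_right_cancel₀ (hne r hr) ?_
      rw [hsq r hr]
      have := congrArg φ (hsq _ (hclosed r hr))
      rw [map_one, map_mul, ← ht _ b1 b2, b3] at this
      exact this
    have e4 : chiU (c0 * (TT).σt c0) r = chiU c0 r * chiU ((TT).σt c0) r := by
      simp [chiU, mul_zpow, Finset.prod_mul_distrib]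
    rw [e4, Units.val_mul, e1, e3, ← pow_two]
    exact hsq r hr

/-- What a node asserts. -/
def Claim (reps : List (List ℕ)) (φ : K →+* K) (hφ : ∀ t, (φ ^ 2) t = t) (nd : Node) : Prop :=
  ∀ t : ℕ → K, Fixed φ t → (∀ r ∈ ordL, r ∉ nd.sup → t r = 0) → (∀ r ∈ nd.nz, t r ≠ 0) →
    kProd t * kProd t = 1 →
    kProd t = 1 ∨ ∃ k < reps.length, Cj φ hφ (kProd t) (XL hE (reps.getD k []))

theorem pval_perm {ρ : ℕ → K} {l l' : List (List ℕ)} (h : l.Perm l') :
    CE.pval ρ l = CE.pval ρ l' := (h.map _).sum_eq

theorem chkM_spec {nz : List ℕ} {e : ℕ} {m : List ℕ} (h : chkM nz e m = true) (ρ : ℕ → K) :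
    (m.map ρ).prod = ρ 100 ^ (2 ^ e) * ((core m).map ρ).prod ∧ ∀ x ∈ core m, x ∈ nz := by
  simp only [chkM, Bool.and_eq_true, nbeq_iff, List.all_eq_true, List.contains_iff_mem] at h
  refine ⟨?_, h.2⟩
  rw [UniCert.prod_split ρ m]
  simp only [UniCert.aux, core, h.1]

theorem sq_zero {S : List ℕ} {ρ : ℕ → K} (hS : isSub S ordL = true)
    (hw : isSub ((sqW S).map Prod.fst) ordL = true) (h0 : ∀ r ∈ ordL, r ∉ S → ρ r = 0)
    (hsq : kProd ρ * kProd ρ = 1) {m : ℕ} (hm : m ∈ ordL) :
    CE.pval ρ (cf (sqW S) m) = 0 := by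
  have e : kProd (fun x => CE.pval ρ (cf (sqW S) x)) = kProd (fun _ => (0 : K)) := by
    rw [← wordG_ordL ρ _ hw, sqW, ← wordC_collPoly, wordC_append, wordC_sub hS h0, hsq, kProd_zero]
  exact kProd_inj e m hm

theorem node_sound (hne : ∃ x : K, φ x ≠ x) {reps : List (List ℕ)} {tab : List Node} {i : ℕ}
    {nd : Node} (hch : chkNode reps tab i nd = true)
    (ih : ∀ j < i, Claim reps φ hφ (tab.getD j node0)) : Claim reps φ hφ nd := by
  intro t hfix ht hP hsq
  simp only [chkNode, Bool.and_eq_true] at hch
  obtain ⟨hS, hnzlt, hact⟩ := hch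
  simp only [List.all_eq_true, Bool.and_eq_true, Nat.ble_eq, Nat.blt_eq] at hnzlt
  have hSr : ∀ r ∈ nd.sup, r ∈ ordL := isSub_mem hS
  have henv : ∀ v, ∀ r ∈ ordL, env φ t v r = t r := fun v r hr => env_root t v (ordL_range hr).2
  have hgw : ∀ v, wordC hE (env φ t v) (gw nd.sup) = kProd t := fun v => by
    rw [wordC_sub hS fun r hr hr' => (henv v r hr).trans (ht r hr hr')]
    exact kProd_congr fun r hr => henv v r hr
  have hcore : ∀ v, ∀ {l : List ℕ}, (∀ x ∈ l, x ∈ nd.nz) →
      (l.map (env φ t v)).prod = (l.map t).prod ∧ (l.map t).prod ≠ 0 := by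
    intro v l hl
    exact ⟨congrArg List.prod (List.map_congr_left fun x hx => env_root t v (hnzlt x (hl x hx)).2),
      UniCert.prod_ne_zero' t fun x hx => hP x (hl x hx)⟩
  have horb : ∀ r ∈ ordL, t r = 0 → t (rhoN r) = 0 := fun r hr h => by
    rw [hfix r (ordL_range hr).1 (ordL_range hr).2, h, map_zero]
  cases hA : nd.act with
  | one =>
    rw [hA] at hact
    rw [List.isEmpty_iff] at hact
    refine Or.inl ?_
    rw [← hgw 0, hact]
    simp [gw, wordC, wordG]
  | zero m r j =>
    rw [hA] at hact
    simp only [Bool.and_eq_true, Nat.blt_eq, List.all_eq_true, Bool.or_eq_true, beq_iff_eq,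
      List.contains_iff_mem] at hact
    obtain ⟨hw, hj, hm, hr, hmono, hnz, hsup⟩ := hact
    have h0 := sq_zero hS hw ht hsq hm
    have hr0 : t r = 0 := by
      unfold UniCert.chkMono at hmono
      match hc : cf (sqW nd.sup) m, hmono with
      | [mm], hmono =>
        simp only [hc, CE.pval, List.map_cons, List.map_nil, List.sum_cons, List.sum_nil,
          add_zero, List.all_eq_true, Bool.or_eq_true, beq_iff_eq, List.contains_iff_mem] at h0 hmono
        by_contra hne0
        refine UniCert.prod_ne_zero' t (fun x hx => ?_) h0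
        rcases hmono x hx with (rfl | rfl) | h
        · exact hne0
        · rw [hfix r (ordL_range hr).1 (ordL_range hr).2]
          simpa using hne0
        · exact hP x h
    refine ih j hj t hfix (fun x hx hx' => ?_) (fun x hx => hP x (hnz x hx)) hsq
    by_cases hxS : x ∈ nd.sup
    · rcases hsup x hxS with (rfl | rfl) | h
      · exact hr0
      · exact horb r hr hr0
      · exact absurd h hx'
    · exact ht x hx hxS
  | split r a b =>
    rw [hA] at hact
    simp only [Bool.and_eq_true, Nat.blt_eq, List.all_eq_true, Bool.or_eq_true, beq_iff_eq,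
      List.contains_iff_mem] at hact
    obtain ⟨ha, hb, hr, hanz, hasup, hbnz, hbsup⟩ := hact
    by_cases h : t r = 0
    · refine ih a ha t hfix (fun x hx hx' => ?_) (fun x hx => hP x (hanz x hx)) hsq
      by_cases hxS : x ∈ nd.sup
      · rcases hasup x hxS with (rfl | rfl) | e
        · exact h
        · exact horb r hr h
        · exact absurd e hx'
      · exact ht x hx hxS
    · refine ih b hb t hfix (fun x hx hx' => ht x hx fun e => hx' (hbsup x e)) (fun x hx => ?_) hsq
      rcases hbnz x hx with (rfl | rfl) | e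
      · exact h
      · rw [hfix r (ordL_range hr).1 (ordL_range hr).2]
        simpa using h
      · exact hP x e
  | kill a s j e h =>
    rw [hA] at hact
    simp only [Bool.and_eq_true, Nat.blt_eq, List.all_eq_true, Bool.or_eq_true, beq_iff_eq,
      List.contains_iff_mem, List.isEmpty_iff, Bool.not_eq_true', beq_eq_false_iff_ne] at hact
    obtain ⟨hw, hj, ha, hs, hhow, hnz, hsup⟩ := hact
    obtain ⟨s1, s2⟩ := ordL_range hs
    obtain ⟨v, hva, hvs⟩ : ∃ v : K, (rhoN a = a → φ v = v) ∧
        CE.pval (env φ t v) (cf (cjW a nd.sup) s) = 0 := by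
      cases h with
      | fix m =>
        simp only [chkHow, Bool.and_eq_true, beq_iff_eq, List.isPerm_iff] at hhow
        obtain ⟨-, hss, hm, hp, hinv⟩ := hhow
        obtain ⟨v, hv⟩ := exists_root e (t s / ((core m).map t).prod)
        obtain ⟨hm1, hm2⟩ := chkM_spec hm (env φ t v)
        obtain ⟨c1, c2⟩ := hcore v hm2
        refine ⟨v, fun _ => pow_inj e ?_, ?_⟩
        · rw [← map_pow, hv, map_div₀, ← hfix s s1 s2, hss,
            ← prod_rho hfix fun x hx => hnzlt x (hm2 x hx), (hinv.map t).prod_eq]
        · rw [pval_perm hp]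
          simp only [CE.pval, List.map_cons, List.map_nil, List.sum_cons, List.sum_nil, List.prod_cons,
            List.prod_nil, mul_one, add_zero, henv v s hs]
          rw [hm1, c1, show env φ t v 100 = v by simp [env], hv, div_mul_cancel₀ _ c2,
            CharTwo.add_self_eq_zero]
      | free m =>
        simp only [chkHow, Bool.and_eq_true, Bool.not_eq_true', beq_eq_false_iff_ne, List.isPerm_iff] at hhow
        obtain ⟨haa, hm, hp⟩ := hhow
        obtain ⟨v, hv⟩ := exists_root e (t s / ((core m).map t).prod)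
        obtain ⟨hm1, hm2⟩ := chkM_spec hm (env φ t v)
        obtain ⟨c1, c2⟩ := hcore v hm2
        refine ⟨v, fun e' => absurd e' haa, ?_⟩
        rw [pval_perm hp]
        simp only [CE.pval, List.map_cons, List.map_nil, List.sum_cons, List.sum_nil, List.prod_cons,
          List.prod_nil, mul_one, add_zero, henv v s hs]
        rw [hm1, c1, show env φ t v 100 = v by simp [env], hv, div_mul_cancel₀ _ c2,
          CharTwo.add_self_eq_zero]
      | tr m m' =>
        simp only [chkHow, Bool.and_eq_true, beq_iff_eq, Bool.not_eq_true', beq_eq_false_iff_ne,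
          List.isPerm_iff] at hhow
        obtain ⟨haa, hss, hm, hp, hmm⟩ := hhow
        obtain ⟨x, hx⟩ := hne
        have hd : x + φ x ≠ 0 := fun h0 => hx (by
          have := eq_neg_of_add_eq_zero_left h0
          rw [CharTwo.neg_eq] at this
          exact this.symm)
        have hdf : φ (x + φ x) = x + φ x := by rw [map_add, phi2 hφ, add_comm]
        have hts : φ (t s) = t s := by rw [← hfix s s1 s2, hss]
        obtain ⟨v, hv⟩ := exists_root e (t s * x / (x + φ x) / ((core m).map t).prod)
        obtain ⟨hm1, hm2⟩ := chkM_spec hm (env φ t v)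
        obtain ⟨c1, c2⟩ := hcore v hm2
        refine ⟨v, fun e' => absurd e' haa, ?_⟩
        have hval : (m'.map (env φ t v)).prod = φ (m.map (env φ t v)).prod := by
          rw [← (hmm.map (env φ t v)).prod_eq, map_list_prod, List.map_map, List.map_map]
          refine congrArg List.prod (List.map_congr_left fun y hy => ?_)
          refine env_phiV hφ hfix v ?_
          by_cases hy0 : y = 100
          · exact Or.inl hy0
          · exact Or.inr (Or.inr (hnzlt y (hm2 y (by
              simp only [core, List.mem_filter, Bool.not_eq_true', beq_eq_false_iff_ne]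
              exact ⟨hy, hy0⟩))))
        rw [pval_perm hp]
        simp only [CE.pval, List.map_cons, List.map_nil, List.sum_cons, List.sum_nil, List.prod_cons,
          List.prod_nil, mul_one, add_zero, henv v s hs]
        rw [hval, hm1, c1, show env φ t v 100 = v by simp [env], hv, div_mul_cancel₀ _ c2,
          map_div₀, map_mul, hts, hdf, ← add_div, ← mul_add, mul_div_cancel_right₀ _ hd,
          CharTwo.add_self_eq_zero]
      | rel m u x y R =>
        simp only [chkHow, Bool.and_eq_true, beq_iff_eq, List.isPerm_iff, List.all_eq_true,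
          List.contains_iff_mem] at hhow
        obtain ⟨-, hm, hp, hwq, hu, hq, hxy, hxs, hR, hRnz⟩ := hhow
        obtain ⟨v, hv⟩ := exists_root e (t s / ((core m).map t).prod)
        obtain ⟨hm1, hm2⟩ := chkM_spec hm (env φ t v)
        obtain ⟨c1, c2⟩ := hcore v hm2
        have hM : ∀ z ∈ core m, 36 ≤ z ∧ z < 72 := fun z hz => hnzlt z (hm2 z hz)
        have hRr : ∀ z ∈ R, 36 ≤ z ∧ z < 72 := fun z hz => hnzlt z (hRnz z hz)
        have hxr : ∀ z ∈ x, 36 ≤ z ∧ z < 72 := by
          intro z hz
          have := hxs.subset hz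
          simp only [List.mem_cons, List.mem_append, List.mem_map] at this
          rcases this with rfl | ⟨w, hw', rfl⟩ | h
          · exact ⟨s1, s2⟩
          · obtain ⟨a1, a2, -⟩ := rhoN_range (hM w hw').1 (hM w hw').2
            exact ⟨a1, a2⟩
          · exact hRr z h
        have hy : (y.map t).prod = φ (x.map t).prod := by
          rw [← (hxy.map t).prod_eq, ← prod_rho hfix hxr]
          refine congrArg List.prod (congrArg (List.map t) (List.map_congr_left fun z hz => ?_))
          have a1 : (z == 100) = false := by have := hxr z hz; simp; omega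
          have a2 : (z == 101) = false := by have := hxr z hz; simp; omega
          simp [phiV, a1, a2]
        have h0 := sq_zero hS hwq ht hsq hu
        rw [pval_perm hq] at h0
        simp only [CE.pval, List.map_cons, List.map_nil, List.sum_cons, List.sum_nil, add_zero,
          hy] at h0
        have hX : (x.map t).prod = t s * φ ((core m).map t).prod * (R.map t).prod := by
          rw [(hxs.map t).prod_eq, List.map_cons, List.prod_cons, List.map_append, List.prod_append,
            prod_rho hfix hM, mul_assoc]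
        have hRfix : φ (R.map t).prod = (R.map t).prod := by
          rw [← prod_rho hfix hRr, (hR.map t).prod_eq]
        rw [hX, map_mul, map_mul, phi2 hφ, hRfix, ← add_mul] at h0
        have hR0 : (R.map t).prod ≠ 0 := UniCert.prod_ne_zero' t fun z hz => hP z (hRnz z hz)
        have key := eq_neg_of_add_eq_zero_left ((mul_eq_zero.1 h0).resolve_right hR0)
        rw [CharTwo.neg_eq] at key
        refine ⟨v, fun _ => pow_inj e ?_, ?_⟩
        · rw [← map_pow, hv, map_div₀, div_eq_div_iff ((map_ne_zero φ).2 c2) c2]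
          exact key.symm
        · rw [pval_perm hp]
          simp only [CE.pval, List.map_cons, List.map_nil, List.sum_cons, List.sum_nil, List.prod_cons,
            List.prod_nil, mul_one, add_zero, henv v s hs]
          rw [hm1, c1, show env φ t v 100 = v by simp [env], hv, div_mul_cancel₀ _ c2,
            CharTwo.add_self_eq_zero]
    set u : ℕ → K := fun x => CE.pval (env φ t v) (cf (cjW a nd.sup) x) with hu
    obtain ⟨hyU, hyinv⟩ := yW_spec (hφ := hφ) ha (env φ t v) (by simp [env]) (fun e' => by
      simpa [env] using hva e')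
    set g := wordC hE (env φ t v) (yW a) with hg
    have eg : g * kProd t * g⁻¹ = kProd u := by
      rw [hyinv, ← hgw v, hg, hu]
      exact wordC_ordW _ _ _ hw
    have hufix : Fixed φ u := by
      obtain ⟨u', hu', e'⟩ := exists_fixed (φ := φ) (hφ := hφ) (g := kProd u) (by
        rw [← eg]
        exact Subgroup.mul_mem _ (Subgroup.mul_mem _ hyU (kProd_mem_U1 hfix)) (Subgroup.inv_mem _ hyU))
      intro r h1 h2
      obtain ⟨b1, b2, -⟩ := rhoN_range h1 h2
      rw [kProd_inj e' r (mem_ordL h1 h2), kProd_inj e' (rhoN r) (mem_ordL b1 b2)]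
      exact hu' r h1 h2
    have hsqu : kProd u * kProd u = 1 := by
      rw [← eg, show g * kProd t * g⁻¹ * (g * kProd t * g⁻¹) = g * (kProd t * kProd t) * g⁻¹ by group,
        hsq, mul_one, mul_inv_cancel]
    have hu' := ih j hj u hufix (fun x hx hx' => ?_) (fun x hx => ?_) hsqu
    · rcases hu' with h1 | ⟨k, hk, h1⟩
      · refine Or.inl ?_
        rw [← eg] at h1
        exact conj_eq_one_iff.1 h1
      · exact Or.inr ⟨k, hk, CjS.trans ⟨g, (TT).U1_le_G1 hyU, eg⟩ h1⟩
    · by_cases hxs : x = s
      · exact hxs ▸ hvs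
      by_cases hxs' : x = rhoN s
      · rw [hxs', hufix s s1 s2, show u s = 0 from hvs, map_zero]
      show CE.pval (env φ t v) (cf (cjW a nd.sup) x) = 0
      cases hl : (cjW a nd.sup).lookup x with
      | none => simp [cf, hl, CE.pval]
      | some p =>
        have hmem : (x, p) ∈ cjW a nd.sup := by
          obtain ⟨l₁, l₂, hl', -⟩ := List.lookup_eq_some_iff.1 hl
          rw [hl']
          simp
        rcases hsup _ hmem with ((h | h) | h) | h
        · exact absurd h hxs
        · exact absurd h hxs'
        · simp only at h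
          simp [cf, hl, h, CE.pval]
        · exact absurd h hx'
    · obtain ⟨h1, -, -, h4⟩ := hnz x hx
      show CE.pval (env φ t v) (cf (cjW a nd.sup) x) ≠ 0
      rw [h4]
      simpa [CE.pval, env_root t v (hnzlt x h1).2] using hP x h1
  | leaf e B k ms =>
    rw [hA] at hact
    simp only [Bool.and_eq_true, Nat.blt_eq, List.all_eq_true, List.contains_iff_mem] at hact
    obtain ⟨hall, hB, hk, hrun⟩ := hact
    obtain ⟨c, hc, hc1⟩ := scale_leaf (hφ := hφ) hB (fun r hr => ordL_range (hSr r hr))
      (fun r hr => (hall r hr).2) hfix fun r hr => hP r (hall r hr).1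
    have hlt : ∀ r ∈ nd.sup, r < chevE6.nroots := fun r hr => ordL_lt (hSr r hr)
    have hg : kProd t = wordG hE (nd.sup.map fun r => (r, t r)) := by
      rw [← hgw 0, wordC_gw]
      exact congrArg (wordG hE) (List.map_congr_left fun r hr => by rw [henv 0 r (hSr r hr)])
    have htor := OrthInvol.torus_word hE c (nd.sup.map fun r => (r, t r)) (fun p hp => by
      obtain ⟨r, hr, rfl⟩ := List.mem_map.1 hp
      exact ⟨hlt r hr, hc1 r hr⟩)
    refine Or.inr ⟨k, hk, CjS.trans (h := XL hE nd.sup) ⟨torusHom c,
      (TT).T1_le_G1 ⟨c, hc, rfl⟩, ?_⟩ ?_⟩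
    · rw [hg, htor, mul_inv_cancel_right]
      simp [Function.comp_def]
    · cases h1 : run nd.sup ms with
      | none => rw [h1] at hrun; simp at hrun
      | some L =>
        cases h2 : norm chevE6 (reps.getD k []) with
        | none => rw [h1, h2] at hrun; simp at hrun
        | some L' =>
          rw [h1, h2, beq_iff_eq] at hrun
          subst hrun
          rw [(UniCert.norm_spec hE h2 (F := K)).1]
          exact run_spec ms _ _ hlt h1

/-- The check of the nodes in an interval. -/
noncomputable def chkRange (reps : List (List ℕ)) (tab : List Node) (lo n : ℕ) : Bool :=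
  allBelow (fun i => force (Nat.add lo i) fun x => chkNode reps tab x (tab.getD x node0)) n

theorem chkRange_spec {reps : List (List ℕ)} {tab : List Node} {lo n : ℕ}
    (h : chkRange reps tab lo n = true) :
    ∀ i, lo ≤ i → i < lo + n → chkNode reps tab i (tab.getD i node0) = true := by
  intro i h1 h2
  simp only [chkRange, allBelow_iff, force_eq, Nat.add_eq] at h
  have := h (i - lo) (by omega)
  rwa [show lo + (i - lo) = i by omega] at this

theorem claim_all (hne : ∃ x : K, φ x ≠ x) {reps : List (List ℕ)} {tab : List Node} {top : ℕ}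
    (hall : ∀ i ≤ top, chkNode reps tab i (tab.getD i node0) = true) :
    Claim reps φ hφ (tab.getD top node0) := by
  have key : ∀ i ≤ top, Claim reps φ hφ (tab.getD i node0) := by
    intro i
    induction i using Nat.strong_induction_on with
    | _ i ih =>
      intro hi
      exact node_sound hne (hall i hi) fun j hj => ih j hj (by omega)
  exact key top le_rfl

end E6Invol

end Cfsg.Agent.Chev
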